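import Mathlib

set_option autoImplicit false

/-!
# A `p`-element acting on an elementary abelian group of order `p²`

Let `V` be elementary abelian of order at most `p²` and `B` a group of automorphisms of `V`
containing a nontrivial `p`-element `u`. Either `u` stabilizes a `B`-invariant line, or `B` contains
the inversion of `V`.
-/

namespace Cfsg.Agent.Lib.Fusion.Meta.Linear

variable {V : Type*} [CommGroup V] [Finite V] {p : ℕ} [hp : Fact p.Prime]

theorem exists_coords (hexp : ∀ x : V, x ^ p = 1) (hcard : Nat.card V ≤ p ^ 2) {e₁ e₂ : V}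
    (h1 : e₁ ≠ 1) (h2 : e₂ ∉ Subgroup.zpowers e₁) (w : V) : ∃ i j : ℕ, w = e₁ ^ i * e₂ ^ j := by
  have ho1 : orderOf e₁ = p := orderOf_eq_prime (hexp e₁) h1
  have hcq : Nat.card (V ⧸ Subgroup.zpowers e₁) ≤ p := by
    have h3 := Subgroup.card_eq_card_quotient_mul_card_subgroup (Subgroup.zpowers e₁)
    rw [Nat.card_zpowers, ho1] at h3
    have hp0 : 0 < p := hp.out.pos
    by_contra hc
    push Not at hc
    have : p * p < Nat.card (V ⧸ Subgroup.zpowers e₁) * p := Nat.mul_lt_mul_of_pos_right hc hp0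
    rw [pow_two] at hcard
    omega
  let b : V ⧸ Subgroup.zpowers e₁ := (e₂ : V)
  have hb : b ≠ 1 := fun h => h2 ((QuotientGroup.eq_one_iff _).1 h)
  have hob : orderOf b = p := by
    refine orderOf_eq_prime ?_ hb
    show ((e₂ : V) : V ⧸ Subgroup.zpowers e₁) ^ p = 1
    rw [← QuotientGroup.mk_pow, hexp]
    rfl
  have htop : Subgroup.zpowers b = ⊤ :=
    Subgroup.eq_top_of_le_card _ (by rw [Nat.card_zpowers, hob]; exact hcq)
  have hw : (w : V ⧸ Subgroup.zpowers e₁) ∈ Subgroup.zpowers b := by rw [htop]; trivial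
  obtain ⟨j, hj⟩ := mem_powers_iff_mem_zpowers.2 hw
  have hj' : (e₂ ^ j : V) * w⁻¹ ∈ Subgroup.zpowers e₁ := by
    rw [← QuotientGroup.eq_one_iff]
    rw [QuotientGroup.mk_mul, QuotientGroup.mk_pow, QuotientGroup.mk_inv]
    have : ((e₂ : V) : V ⧸ Subgroup.zpowers e₁) ^ j = (w : V ⧸ Subgroup.zpowers e₁) := hj
    rw [this]
    simp
  obtain ⟨i, hi⟩ := mem_powers_iff_mem_zpowers.2 (Subgroup.inv_mem _ hj')
  refine ⟨i, j, ?_⟩
  have hi' : e₁ ^ i = (e₂ ^ j * w⁻¹)⁻¹ := hi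
  rw [hi']
  simp

omit [Finite V] in
theorem pow_fix {u : MulAut V} {e : V} (h : u e = e) (n : ℕ) : (u ^ n) e = e := by
  induction n with
  | zero => simp
  | succ n ih => rw [pow_succ, MulAut.mul_apply, h, ih]

theorem eq_one_of_fix (hexp : ∀ x : V, x ^ p = 1) (hcard : Nat.card V ≤ p ^ 2) {e₁ e₂ : V}
    (h1 : e₁ ≠ 1) (h2 : e₂ ∉ Subgroup.zpowers e₁) {u : MulAut V} (hu1 : u e₁ = e₁) (hu2 : u e₂ = e₂) :
    u = 1 := by
  ext w
  obtain ⟨i, j, rfl⟩ := exists_coords hexp hcard h1 h2 w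
  simp [map_mul, map_pow, hu1, hu2]

/-- A `p`-element fixing `e₁`, nontrivial: `u e₂ = e₂ e₁^x` with `x ≠ 0`. -/
theorem exists_shift (hexp : ∀ x : V, x ^ p = 1) (hcard : Nat.card V ≤ p ^ 2) {u : MulAut V} {k : ℕ}
    (huk : u ^ (p ^ k) = 1) (hu1 : u ≠ 1) {e₁ e₂ : V} (h1 : e₁ ≠ 1) (hfix : u e₁ = e₁)
    (h2 : e₂ ∉ Subgroup.zpowers e₁) : ∃ x : ℕ, ¬ p ∣ x ∧ u e₂ = e₂ * e₁ ^ x := by
  obtain ⟨c, m, hcm⟩ := exists_coords hexp hcard h1 h2 (u e₂)
  have hind : ∀ n : ℕ, ∃ c' : ℕ, (u ^ n) e₂ = e₁ ^ c' * e₂ ^ (m ^ n) := by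
    intro n
    induction n with
    | zero => exact ⟨0, by simp⟩
    | succ n ih =>
      obtain ⟨c', hc'⟩ := ih
      refine ⟨c + c' * m, ?_⟩
      rw [pow_succ, MulAut.mul_apply, hcm, map_mul, map_pow, map_pow, pow_fix hfix, hc', mul_pow,
        ← pow_mul, ← pow_mul, pow_add, pow_succ, mul_assoc]
  obtain ⟨c', hc'⟩ := hind (p ^ k)
  rw [huk] at hc'
  let b : V ⧸ Subgroup.zpowers e₁ := (e₂ : V)
  have hb : b ≠ 1 := fun h => h2 ((QuotientGroup.eq_one_iff _).1 h)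
  have hob : orderOf b = p := by
    refine orderOf_eq_prime ?_ hb
    show ((e₂ : V) : V ⧸ Subgroup.zpowers e₁) ^ p = 1
    rw [← QuotientGroup.mk_pow, hexp]
    rfl
  have hbM : b ^ (m ^ (p ^ k)) = b ^ 1 := by
    have h3 : ((e₂ : V) : V ⧸ Subgroup.zpowers e₁) =
        ((e₁ ^ c' * e₂ ^ (m ^ (p ^ k)) : V) : V ⧸ Subgroup.zpowers e₁) := congrArg _ hc'
    rw [QuotientGroup.mk_mul] at h3
    have h4 : ((e₁ ^ c' : V) : V ⧸ Subgroup.zpowers e₁) = 1 :=
      (QuotientGroup.eq_one_iff _).2 (Subgroup.pow_mem _ (Subgroup.mem_zpowers e₁) c')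
    rw [h4, one_mul, QuotientGroup.mk_pow] at h3
    rw [pow_one]
    exact h3.symm
  have hmod := (pow_eq_pow_iff_modEq.1 hbM)
  rw [hob] at hmod
  have hz : ((m ^ (p ^ k) : ℕ) : ZMod p) = ((1 : ℕ) : ZMod p) := (ZMod.natCast_eq_natCast_iff _ _ _).2 hmod
  have hz2 : (m : ZMod p) = 1 := by
    have h5 := ZMod.pow_card_pow (n := k) (x := (m : ZMod p))
    push_cast at hz
    rw [← h5, hz]
  have he2 : e₂ ≠ 1 := by
    rintro rfl
    exact h2 (one_mem _)
  have ho2 : orderOf e₂ = p := orderOf_eq_prime (hexp e₂) he2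
  have hm1 : e₂ ^ m = e₂ ^ 1 := by
    apply pow_eq_pow_iff_modEq.2
    rw [ho2]
    apply (ZMod.natCast_eq_natCast_iff _ _ _).1
    push_cast
    exact hz2
  rw [pow_one] at hm1
  refine ⟨c, ?_, ?_⟩
  · rintro ⟨t, rfl⟩
    apply hu1
    apply eq_one_of_fix hexp hcard h1 h2 hfix
    rw [hcm, hm1, pow_mul, hexp, one_pow, one_mul]
  · rw [hcm, hm1, mul_comm]

omit [Finite V] in
theorem shift_pow {u : MulAut V} {e₁ e₂ : V} {x : ℕ} (hfix : u e₁ = e₁) (h : u e₂ = e₂ * e₁ ^ x)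
    (n : ℕ) : (u ^ n) e₂ = e₂ * e₁ ^ (n * x) := by
  induction n with
  | zero => simp
  | succ n ih =>
    rw [pow_succ, MulAut.mul_apply, h, map_mul, map_pow, pow_fix hfix, ih, mul_assoc, ← pow_add]
    congr 2
    ring

theorem main (hexp : ∀ x : V, x ^ p = 1) (hcard : Nat.card V ≤ p ^ 2) (B : Subgroup (MulAut V))
    {u : MulAut V} (huB : u ∈ B) {k : ℕ} (huk : u ^ (p ^ k) = 1) (hu1 : u ≠ 1) :
    Nat.card V = p ^ 2 ∧ u ^ p = 1 ∧ ((∃ z ∈ B, ∀ v, z v = v⁻¹) ∨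
      ∃ ℓ : Subgroup V, (∀ β ∈ B, ∀ x ∈ ℓ, β x ∈ ℓ) ∧ (∀ x ∈ ℓ, u x = x) ∧ ∀ x, x⁻¹ * u x ∈ ℓ) := by
  classical
  -- a nontrivial fixed point
  have hVp : IsPGroup p V := fun x => ⟨1, by rw [pow_one]; exact hexp x⟩
  have hnt : Nontrivial V := by
    by_contra hnt
    rw [not_nontrivial_iff_subsingleton] at hnt
    apply hu1
    ext w
    exact Subsingleton.elim _ _
  have hZp : IsPGroup p (Subgroup.zpowers u) := by
    refine IsPGroup.of_card (n := ?_) ?_
    · exact (Nat.dvd_prime_pow hp.out |>.1 (orderOf_dvd_of_pow_eq_one huk)).choose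
    · rw [Nat.card_zpowers]
      exact (Nat.dvd_prime_pow hp.out |>.1 (orderOf_dvd_of_pow_eq_one huk)).choose_spec.2
  have hdvd : p ∣ Nat.card V := by
    obtain ⟨n, hn⟩ := IsPGroup.iff_card.1 hVp
    have hone : 1 < Nat.card V := Finite.one_lt_card_iff_nontrivial.2 hnt
    rw [hn]
    refine dvd_pow_self p ?_
    rintro rfl
    rw [pow_zero] at hn
    omega
  have hone_fix : (1 : V) ∈ MulAction.fixedPoints (Subgroup.zpowers u) V := by
    intro g
    exact map_one (g : MulAut V)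
  obtain ⟨e₁, he₁f, he₁ne⟩ := hZp.exists_fixed_point_of_prime_dvd_card_of_fixed_point V hdvd hone_fix
  have hfix : u e₁ = e₁ := he₁f ⟨u, Subgroup.mem_zpowers u⟩
  have h1 : e₁ ≠ 1 := fun h => he₁ne h.symm
  have ho1 : orderOf e₁ = p := orderOf_eq_prime (hexp e₁) h1
  -- an element outside the line
  obtain ⟨e₀, he₀⟩ : ∃ e₀ : V, e₀ ∉ Subgroup.zpowers e₁ := by
    by_contra hall
    push Not at hall
    apply hu1
    ext w
    obtain ⟨i, hi⟩ := hall w
    rw [← hi, map_zpow, hfix]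
    rfl
  have hcardeq : Nat.card V = p ^ 2 := by
    refine le_antisymm hcard ?_
    have h3 := Subgroup.card_eq_card_quotient_mul_card_subgroup (Subgroup.zpowers e₁)
    rw [Nat.card_zpowers, ho1] at h3
    let b : V ⧸ Subgroup.zpowers e₁ := (e₀ : V)
    have hb : b ≠ 1 := fun h => he₀ ((QuotientGroup.eq_one_iff _).1 h)
    have hob : orderOf b = p := by
      refine orderOf_eq_prime ?_ hb
      show ((e₀ : V) : V ⧸ Subgroup.zpowers e₁) ^ p = 1
      rw [← QuotientGroup.mk_pow, hexp]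
      rfl
    have h4 : p ≤ Nat.card (V ⧸ Subgroup.zpowers e₁) :=
      Nat.le_of_dvd Nat.card_pos (hob ▸ orderOf_dvd_natCard b)
    rw [h3, pow_two]
    exact Nat.mul_le_mul_right _ h4
  obtain ⟨x₀, hx₀, hs₀⟩ := exists_shift hexp hcard huk hu1 h1 hfix he₀
  have hup : u ^ p = 1 := by
    apply eq_one_of_fix hexp hcard h1 he₀ (pow_fix hfix p)
    rw [shift_pow hfix hs₀, pow_mul, hexp, one_pow, mul_one]
  refine ⟨hcardeq, hup, ?_⟩
  by_cases hinv : ∀ β ∈ B, β e₁ ∈ Subgroup.zpowers e₁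
  · right
    refine ⟨Subgroup.zpowers e₁, ?_, ?_, ?_⟩
    · intro β hβ x hx
      obtain ⟨i, rfl⟩ := hx
      show β (e₁ ^ i) ∈ _
      rw [map_zpow]
      exact Subgroup.zpow_mem _ (hinv β hβ) i
    · intro x hx
      obtain ⟨i, rfl⟩ := hx
      show u (e₁ ^ i) = e₁ ^ i
      rw [map_zpow, hfix]
    · intro w
      obtain ⟨i, j, rfl⟩ := exists_coords hexp hcard h1 he₀ w
      have e : (e₁ ^ i * e₀ ^ j)⁻¹ * u (e₁ ^ i * e₀ ^ j) = e₁ ^ (x₀ * j) := by
        rw [map_mul, map_pow, map_pow, hfix, hs₀, mul_pow, ← pow_mul, ← mul_assoc (e₁ ^ i),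
          inv_mul_cancel_left]
      rw [e]
      exact Subgroup.pow_mem _ (Subgroup.mem_zpowers e₁) _
  · left
    push Not at hinv
    obtain ⟨β, hβ, he₂⟩ := hinv
    set e₂ := β e₁ with he₂def
    have h2ne : e₂ ≠ 1 := by
      intro h
      rw [h] at he₂
      exact he₂ (one_mem _)
    have ho2 : orderOf e₂ = p := orderOf_eq_prime (hexp e₂) h2ne
    let v : MulAut V := β * u * β⁻¹
    have hvB : v ∈ B := B.mul_mem (B.mul_mem hβ huB) (B.inv_mem hβ)
    have hvfix : v e₂ = e₂ := by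
      show β (u (β⁻¹ (β e₁))) = β e₁
      rw [MulAut.inv_apply_self, hfix]
    have hvk : v ^ (p ^ k) = 1 := by
      have : v ^ (p ^ k) = β * u ^ (p ^ k) * β⁻¹ := conj_pow
      rw [this, huk]
      simp
    have hv1 : v ≠ 1 := by
      intro h
      apply hu1
      have : u = β⁻¹ * v * β := by
        show u = β⁻¹ * (β * u * β⁻¹) * β
        group
      rw [this, h]
      simp
    have h12 : e₁ ∉ Subgroup.zpowers e₂ := by
      intro h
      have hle : Subgroup.zpowers e₁ ≤ Subgroup.zpowers e₂ := Subgroup.zpowers_le.2 h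
      have heq : Subgroup.zpowers e₁ = Subgroup.zpowers e₂ :=
        Subgroup.eq_of_le_of_card_ge hle (by rw [Nat.card_zpowers, Nat.card_zpowers, ho1, ho2])
      apply he₂
      rw [heq]
      exact Subgroup.mem_zpowers e₂
    obtain ⟨x, hx, hsu⟩ := exists_shift hexp hcard huk hu1 h1 hfix he₂
    obtain ⟨y, hy, hsv⟩ := exists_shift hexp hcard hvk hv1 h2ne hvfix h12
    -- choose `r`
    obtain ⟨r, hr⟩ : ∃ r : ℕ, p ∣ 1 + r * (x * y) := by
      have hne : ((x * y : ℕ) : ZMod p) ≠ 0 := by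
        rw [Ne, ZMod.natCast_eq_zero_iff]
        intro hd
        rcases (Nat.Prime.dvd_mul hp.out).1 hd with h | h
        · exact hx h
        · exact hy h
      refine ⟨(-((x * y : ℕ) : ZMod p)⁻¹).val, ?_⟩
      rw [← ZMod.natCast_eq_zero_iff]
      rw [Nat.cast_add, Nat.cast_mul, ZMod.natCast_zmod_val, Nat.cast_one, neg_mul,
        inv_mul_cancel₀ hne]
      ring
    let w : MulAut V := u * v ^ r * u
    have hwB : w ∈ B := B.mul_mem (B.mul_mem huB (B.pow_mem hvB r)) huB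
    have hvr1 : (v ^ r) e₁ = e₁ * e₂ ^ (r * y) := shift_pow hvfix hsv r
    have hvr2 : (v ^ r) e₂ = e₂ := pow_fix hvfix r
    have hpow1 : ∀ e : V, e ^ (1 + r * (x * y)) = 1 := by
      intro e
      obtain ⟨t, ht⟩ := hr
      rw [ht, pow_mul, hexp, one_pow]
    have hw1 : w e₁ = e₂ ^ (r * y) := by
      show u ((v ^ r) (u e₁)) = _
      rw [hfix, hvr1, map_mul, map_pow, hfix, hsu, mul_pow, ← pow_mul]
      have e : e₁ * (e₂ ^ (r * y) * e₁ ^ (x * (r * y))) = e₁ ^ (1 + r * (x * y)) * e₂ ^ (r * y) := by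
        rw [pow_add, pow_one, show r * (x * y) = x * (r * y) by ring]
        ac_rfl
      rw [e, hpow1, one_mul]
    have hw2 : w e₂ = e₁ ^ x := by
      have e1 : (v ^ r) (u e₂) = e₁ ^ x := by
        rw [hsu, map_mul, map_pow, hvr2, hvr1, mul_pow, ← pow_mul]
        have e : e₂ * (e₁ ^ x * e₂ ^ (r * y * x)) = e₂ ^ (1 + r * (x * y)) * e₁ ^ x := by
          rw [pow_add, pow_one, show r * (x * y) = r * y * x by ring]
          ac_rfl
        rw [e, hpow1, one_mul]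
      show u ((v ^ r) (u e₂)) = _
      rw [e1, map_pow, hfix]
    refine ⟨w * w, B.mul_mem hwB hwB, fun t => ?_⟩
    have hz1 : (w * w) e₁ = e₁⁻¹ := by
      rw [MulAut.mul_apply, hw1, map_pow, hw2, ← pow_mul]
      have := hpow1 e₁
      rw [pow_add, pow_one] at this
      rw [show x * (r * y) = r * (x * y) by ring]
      exact eq_inv_of_mul_eq_one_right this
    have hz2 : (w * w) e₂ = e₂⁻¹ := by
      rw [MulAut.mul_apply, hw2, map_pow, hw1, ← pow_mul]
      have := hpow1 e₂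
      rw [pow_add, pow_one] at this
      rw [show r * y * x = r * (x * y) by ring]
      exact eq_inv_of_mul_eq_one_right this
    obtain ⟨i, j, rfl⟩ := exists_coords hexp hcard h1 he₂ t
    rw [map_mul, map_pow, map_pow, hz1, hz2, mul_inv, inv_pow, inv_pow]

end Cfsg.Agent.Lib.Fusion.Meta.Linear
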