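import Mathlib
import Cfsg.Prelude.Def_OddOrderLocal
import Cfsg.Agent.Lib.Basic.PCore
import Cfsg.Agent.Lib.Coprime.FrattiniAct
import Cfsg.Agent.Lib.Coprime.Stability
import Cfsg.Agent.Lib.Fusion.Chain
import Cfsg.Agent.Lib.Fusion.Meta.Linear
import Cfsg.Agent.Lib.PGroup.FrattiniBasis
import Cfsg.Agent.Lib.PGroup.HuppertA
import Cfsg.Agent.Lib.PGroup.Basic
import Cfsg.Agent.Lib.PGroup.ActionFrattini

set_option autoImplicit false

/-!
# Groups of automorphisms stabilizing `Q` and acting on `Q / Φ(Q)`, for `Q` metacyclic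
-/

namespace Cfsg.Agent.Lib.Fusion.Meta.Frat

open Cfsg Cfsg.Agent.Lib.Fusion.Chain
open scoped commutatorElement

/-- **Burnside**: an automorphism of order prime to `p` of a finite `p`-group acting trivially on
the Frattini quotient is trivial. -/
theorem aut_eq_one_of_frattini {Q : Type*} [Group Q] [Finite Q] {p : ℕ} [hp : Fact p.Prime]
    (hQ : IsPGroup p Q) (β : MulAut Q) (hc : (orderOf β).Coprime p)
    (h : ∀ x, x⁻¹ * β x ∈ frattini Q) : β = 1 := by
  classical
  have hpow : ∀ (n : ℕ) (x : Q), x⁻¹ * (β ^ n) x ∈ frattini Q := by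
    intro n
    induction n with
    | zero => intro x; simp [one_mem]
    | succ n ih =>
      intro x
      have e : x⁻¹ * (β ^ (n + 1)) x = (x⁻¹ * β x) * ((β x)⁻¹ * (β ^ n) (β x)) := by
        rw [pow_succ, MulAut.mul_apply]
        group
      rw [e]
      exact mul_mem (h x) (ih _)
  have hfinA : Finite (MulAut Q) :=
    Finite.of_injective (fun f : MulAut Q => (f : Q → Q)) DFunLike.coe_injective
  let φ : MulAut Q →* MulAut Q := MonoidHom.id _
  let G' := Q ⋊[φ] MulAut Q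
  have hfinG : Finite G' := Finite.of_equiv _ SemidirectProduct.equivProd.symm
  let ι : Q →* G' := SemidirectProduct.inl
  let r : MulAut Q →* G' := SemidirectProduct.inr
  have hconj : ∀ (γ : MulAut Q) (x : Q), r γ * ι x * (r γ)⁻¹ = ι (γ x) := by
    intro γ x
    rw [← map_inv]
    exact (SemidirectProduct.inl_aut (φ := φ) γ x).symm
  have hrinj : Function.Injective r := SemidirectProduct.inr_injective
  have hιinj : Function.Injective ι := SemidirectProduct.inl_injective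
  let T : Subgroup G' := ι.range
  have hTn : T.Normal := by
    have : T = (SemidirectProduct.rightHom : G' →* MulAut Q).ker :=
      SemidirectProduct.range_inl_eq_ker_rightHom
    rw [this]
    infer_instance
  have hT : IsPGroup p T := IsPGroup.of_surjective hQ ι.rangeRestrict ι.rangeRestrict_surjective
  have hA : Subgroup.zpowers (r β) ≤ Subgroup.normalizer (T : Set G') := by
    rw [Subgroup.normalizer_eq_top_iff.2 hTn]
    exact le_top
  have hcop : (Nat.card (Subgroup.zpowers (r β))).Coprime p := by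
    rw [Nat.card_zpowers, orderOf_injective r hrinj]
    exact hc
  have hfr : ∀ d ∈ frattini Q, ι d ∈ (frattini ↥T).map T.subtype := by
    intro d hd
    have h1 := frattini_le_comap_frattini_of_surjective (ι.rangeRestrict_surjective) hd
    exact ⟨ι.rangeRestrict d, h1, rfl⟩
  have hle := Cfsg.Agent.Lib.Coprime.FrattiniAct.le_centralizer_of_frattini hT hA hcop (by
    rintro _ ⟨q, rfl⟩ a ha
    obtain ⟨n, rfl⟩ := mem_powers_iff_mem_zpowers.2 ha
    have e1 : (r β) ^ n = r (β ^ n) := (map_pow r β n).symm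
    show (ι q)⁻¹ * ((r β) ^ n * ι q * ((r β) ^ n)⁻¹) ∈ _
    rw [e1, hconj, ← map_inv, ← map_mul]
    exact hfr _ (hpow n q))
  ext q
  have h1 := Subgroup.mem_centralizer_iff.1 (hle (Subgroup.mem_zpowers (r β))) (ι q) ⟨q, rfl⟩
  have h2 : ι (β q) = ι q := by
    rw [← hconj, ← h1, mul_inv_cancel_right]
  exact hιinj h2

section aut

variable {G : Type*} [Group G]

/-- Restriction of a group of automorphisms to an invariant subgroup. -/
def resAut (A : Subgroup (MulAut G)) (Q : Subgroup G) (hinv : ∀ α ∈ A, ∀ x ∈ Q, α x ∈ Q) :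
    A →* MulAut Q where
  toFun α :=
    { toFun := fun x => ⟨α.1 x, hinv _ α.2 _ x.2⟩
      invFun := fun x => ⟨α.1⁻¹ x, hinv _ (A.inv_mem α.2) _ x.2⟩
      left_inv := fun x => Subtype.ext (MulAut.inv_apply_self _ _ _)
      right_inv := fun x => Subtype.ext (MulAut.apply_inv_self _ _ _)
      map_mul' := fun x y => Subtype.ext (map_mul α.1 _ _) }
  map_one' := by
    ext x
    rfl
  map_mul' := by
    intro a b
    ext x
    rfl

@[simp] theorem resAut_coe (A : Subgroup (MulAut G)) (Q : Subgroup G)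
    (hinv : ∀ α ∈ A, ∀ x ∈ Q, α x ∈ Q) (α : A) (x : Q) :
    ((resAut A Q hinv α x : Q) : G) = α.1 x := rfl

/-- The action on the Frattini quotient. -/
def fratAut (Q : Type*) [Group Q] : MulAut Q →* MulAut (Q ⧸ frattini Q) where
  toFun β := QuotientGroup.congr _ _ β (Subgroup.characteristic_iff_map_eq.1 inferInstance β)
  map_one' := by
    ext x
    obtain ⟨y, rfl⟩ := QuotientGroup.mk_surjective x
    rfl
  map_mul' := by
    intro a b
    ext x
    obtain ⟨y, rfl⟩ := QuotientGroup.mk_surjective x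
    rfl

@[simp] theorem fratAut_mk {Q : Type*} [Group Q] (β : MulAut Q) (x : Q) :
    fratAut Q β (x : Q ⧸ frattini Q) = ((β x : Q) : Q ⧸ frattini Q) := rfl

end aut

section main

variable {G : Type*} [Group G] [Finite G] {p : ℕ} [hp : Fact p.Prime]

/-- An element of `A` acting trivially on `G/Q` and stabilizing an `A`-invariant chain in `Q/Φ(Q)` lies
in `O_p(A)`. -/
theorem mem_pCore_of_stab (hG : IsPGroup p G) (A : Subgroup (MulAut G)) (Q : Subgroup G)
    (hinv : ∀ α ∈ A, ∀ x ∈ Q, α x ∈ Q) (ℓ : Subgroup (Q ⧸ frattini Q))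
    (hℓ : ∀ α : A, ∀ x ∈ ℓ, fratAut Q (resAut A Q hinv α) x ∈ ℓ) {γ : A}
    (h0 : ∀ x, x⁻¹ * γ.1 x ∈ Q) (h1 : ∀ x ∈ ℓ, fratAut Q (resAut A Q hinv γ) x = x)
    (h2 : ∀ x, x⁻¹ * fratAut Q (resAut A Q hinv γ) x ∈ ℓ) : γ ∈ pCore p A := by
  classical
  have hQp : IsPGroup p Q := hG.to_subgroup Q
  have hVp : IsPGroup p (Q ⧸ frattini Q) := hQp.to_quotient _
  let ρ : A →* MulAut (Q ⧸ frattini Q) := (fratAut Q).comp (resAut A Q hinv)
  -- stabilizer of `Q < G`
  let D₀ : ℕ → Subgroup G := fun i => if i = 0 then Q else ⊤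
  have hD₀ : ∀ i ≤ 1, ∀ α ∈ A, ∀ x ∈ D₀ i, α x ∈ D₀ i := by
    intro i _ α hα x hx
    by_cases hi : i = 0
    · subst hi
      exact hinv α hα x hx
    · simp [D₀, hi]
  let S₀ : Subgroup A := chainStab A D₀ 1 hD₀
  have hS₀ : S₀.Normal := chainStab_normal A D₀ 1 hD₀
  -- stabilizer of `1 < ℓ < Q/Φ`
  let D₁ : ℕ → Subgroup (Q ⧸ frattini Q) := fun i => if i = 0 then ⊥ else if i = 1 then ℓ else ⊤
  let A₁ : Subgroup (MulAut (Q ⧸ frattini Q)) := ρ.range
  have hD₁ : ∀ i ≤ 2, ∀ α ∈ A₁, ∀ x ∈ D₁ i, α x ∈ D₁ i := by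
    rintro i _ _ ⟨α, rfl⟩ x hx
    by_cases hi : i = 0
    · subst hi
      have hx' : x = 1 := hx
      rw [hx', map_one]
      exact one_mem _
    · by_cases hi1 : i = 1
      · subst hi1
        exact hℓ α x hx
      · simp [D₁, hi, hi1]
  let S₁ : Subgroup A₁ := chainStab A₁ D₁ 2 hD₁
  have hS₁ : S₁.Normal := chainStab_normal A₁ D₁ 2 hD₁
  let K : Subgroup A := S₀ ⊓ S₁.comap ρ.rangeRestrict
  have hKn : K.Normal := by
    have : (S₁.comap ρ.rangeRestrict).Normal := hS₁.comap _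
    exact Subgroup.normal_inf_normal _ _
  have hfinA : Finite A := Finite.of_injective (fun f : A => (f.1 : G → G))
    (fun _ _ h => Subtype.ext (DFunLike.coe_injective h))
  have hKp : IsPGroup p K := by
    refine Cfsg.Agent.Lib.Coprime.Stability.isPGroup_of_forall_coprime hp.out K ?_
    intro δ hδ hc
    -- first on `Q/Φ(Q)`
    have hcρ : (orderOf (ρ δ)).Coprime p :=
      Nat.Coprime.coprime_dvd_left (orderOf_map_dvd ρ δ) hc
    have hρ1 : ρ δ = 1 := by
      refine eq_one_of_stab_chain hVp (D := D₁) (m := 2) rfl rfl ?_ hcρ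
      intro i hi x hx
      exact hδ.2 i hi x hx
    -- then on `Q`
    have hres : resAut A Q hinv δ = 1 := by
      refine aut_eq_one_of_frattini hQp _
        (Nat.Coprime.coprime_dvd_left (orderOf_map_dvd _ δ) hc) ?_
      intro x
      rw [← QuotientGroup.eq_one_iff]
      have h3 : fratAut Q (resAut A Q hinv δ) (x : Q ⧸ frattini Q) = (x : Q ⧸ frattini Q) := by
        have : ρ δ (x : Q ⧸ frattini Q) = (x : Q ⧸ frattini Q) := by rw [hρ1]; rfl
        exact this
      rw [fratAut_mk] at h3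
      rw [QuotientGroup.mk_mul, QuotientGroup.mk_inv, h3]
      simp
    -- then on `G`
    have hδ1 : (δ : MulAut G) = 1 := by
      let D₂ : ℕ → Subgroup G := fun i => if i = 0 then ⊥ else if i = 1 then Q else ⊤
      refine eq_one_of_stab_chain hG (D := D₂) (m := 2) rfl rfl ?_
        (by rwa [Subgroup.orderOf_coe] )
      intro i hi x hx
      by_cases hi0 : i = 0
      · subst hi0
        have hxQ : x ∈ Q := hx
        have h4 : resAut A Q hinv δ ⟨x, hxQ⟩ = ⟨x, hxQ⟩ := by rw [hres]; rfl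
        have h5 : (δ : MulAut G) x = x := congrArg Subtype.val h4
        rw [h5]
        simp [D₂, one_mem]
      · have hi1 : i = 1 := by omega
        subst hi1
        exact hδ.1 0 (by omega) x trivial
    exact Subtype.ext hδ1
  refine Cfsg.Agent.Lib.Basic.PCore.le_pCore hKn hKp ⟨?_, ?_⟩
  · intro i hi x hx
    have hi0 : i = 0 := by omega
    subst hi0
    exact h0 x
  · show ρ.rangeRestrict γ ∈ S₁
    intro i hi x hx
    by_cases hi0 : i = 0
    · subst hi0
      have h3 : ρ γ x = x := h1 x hx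
      have : x⁻¹ * ρ γ x = 1 := by rw [h3]; simp
      show x⁻¹ * ρ γ x ∈ D₁ 0
      rw [this]
      exact one_mem _
    · have hi1 : i = 1 := by omega
      subst hi1
      exact h2 x

end main


section inverting

variable {G : Type*} [Group G] [Finite G] {p : ℕ} [hp : Fact p.Prime]

/-- The elementary abelian Frattini quotient of a metacyclic `p`-group has a nontrivial `p`-automorphism
only in a rigid way: the main dichotomy. -/
theorem exists_inverting (hG : IsPGroup p G) (A : Subgroup (MulAut G)) (Q : Subgroup G)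
    (hinv : ∀ α ∈ A, ∀ x ∈ Q, α x ∈ Q) (hm : Cfsg.IsMetacyclic Q) {α₀ : A} {k : ℕ}
    (hk : α₀ ^ (p ^ k) = 1) (h0 : ∀ x, x⁻¹ * α₀.1 x ∈ Q) (hnot : α₀ ∉ pCore p A) :
    ∃ D : Subgroup G, D ≤ Q ∧ (∀ α ∈ A, ∀ x ∈ D, α x ∈ D) ∧ (∀ x ∈ Q, ∀ d ∈ D, x * d * x⁻¹ ∈ D) ∧
      (∀ x ∈ Q, x ^ p ∈ D) ∧ Nat.card Q = p ^ 2 * Nat.card D ∧ α₀ ^ p ∈ pCore p A ∧
      ∃ z : A, (∀ q ∈ Q, z.1 q * q ∈ D) ∧ z * α₀ * z⁻¹ * α₀⁻¹ ∈ pCore p A := by
  classical
  have hQp : IsPGroup p Q := hG.to_subgroup Q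
  let ρ : A →* MulAut (Q ⧸ frattini Q) := (fratAut Q).comp (resAut A Q hinv)
  have hρ : ∀ (α : A) (x : Q), ρ α (x : Q ⧸ frattini Q) = ((resAut A Q hinv α x : Q) : Q ⧸ frattini Q) :=
    fun _ _ => rfl
  have hVc : ∀ a b : Q ⧸ frattini Q, a * b = b * a := by
    intro a b
    obtain ⟨x, rfl⟩ := QuotientGroup.mk_surjective a
    obtain ⟨y, rfl⟩ := QuotientGroup.mk_surjective b
    have h1 : ⁅x, y⁆ ∈ frattini Q :=
      Cfsg.Agent.Lib.PGroup.FrattiniBasis.commutator_le_frattini hQp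
        (Subgroup.commutator_mem_commutator trivial trivial)
    have h2 : ((⁅x, y⁆ : Q) : Q ⧸ frattini Q) = 1 := (QuotientGroup.eq_one_iff _).2 h1
    rw [commutatorElement_def, QuotientGroup.mk_mul, QuotientGroup.mk_mul, QuotientGroup.mk_mul,
      QuotientGroup.mk_inv, QuotientGroup.mk_inv] at h2
    have h3 := congrArg (· * ((y : Q) : Q ⧸ frattini Q) * ((x : Q) : Q ⧸ frattini Q)) h2
    simpa [mul_assoc] using h3
  have hexp : ∀ v : Q ⧸ frattini Q, v ^ p = 1 := by
    intro v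
    obtain ⟨x, rfl⟩ := QuotientGroup.mk_surjective v
    rw [← QuotientGroup.mk_pow]
    exact (QuotientGroup.eq_one_iff _).2
      (Cfsg.Agent.Lib.PGroup.FrattiniBasis.pow_mem_frattini hQp x)
  have hcard : Nat.card (Q ⧸ frattini Q) ≤ p ^ 2 := by
    have h1 : Cfsg.IsMetacyclic (Q ⧸ frattini Q) :=
      Cfsg.Agent.Lib.PGroup.HuppertA.metacyclic_of_surjective (QuotientGroup.mk' _)
        (QuotientGroup.mk'_surjective _) hm
    exact Cfsg.Agent.Lib.PGroup.HuppertA.card_le_of_metacyclic_exponent hp.out.pos h1 hexp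
  -- the normal subgroup acting trivially on `G / Q`
  let D₀ : ℕ → Subgroup G := fun i => if i = 0 then Q else ⊤
  have hD₀ : ∀ i ≤ 1, ∀ α ∈ A, ∀ x ∈ D₀ i, α x ∈ D₀ i := by
    intro i _ α hα x hx
    by_cases hi : i = 0
    · subst hi
      exact hinv α hα x hx
    · simp [D₀, hi]
  let S₀ : Subgroup A := chainStab A D₀ 1 hD₀
  have hS₀ : S₀.Normal := chainStab_normal A D₀ 1 hD₀
  have hS₀mem : ∀ γ : A, γ ∈ S₀ ↔ ∀ x, x⁻¹ * γ.1 x ∈ Q := by
    intro γ
    constructor
    · intro h x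
      exact h 0 (by omega) x trivial
    · intro h i hi x _
      have hi0 : i = 0 := by omega
      subst hi0
      exact h x
  have hα₀S : α₀ ∈ S₀ := (hS₀mem _).2 h0
  -- criterion with `ℓ = ⊥`
  have hbot : ∀ γ : A, γ ∈ S₀ → ρ γ = 1 → γ ∈ pCore p A := by
    intro γ hγ hρ1
    refine mem_pCore_of_stab hG A Q hinv ⊥ ?_ ((hS₀mem γ).1 hγ) ?_ ?_
    · intro α x hx
      have hx' : x = 1 := hx
      rw [hx', map_one]
      exact one_mem _
    · intro x hx
      have hx' : x = 1 := hx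
      rw [hx', map_one]
    · intro x
      have h1 : fratAut Q (resAut A Q hinv γ) x = x := by
        have : ρ γ x = x := by rw [hρ1]; rfl
        exact this
      rw [h1]
      simp
  let u : MulAut (Q ⧸ frattini Q) := ρ α₀
  have huk : u ^ (p ^ k) = 1 := by
    rw [← map_pow, hk, map_one]
  have hu1 : u ≠ 1 := fun h => hnot (hbot α₀ hα₀S h)
  let instV : CommGroup (Q ⧸ frattini Q) := { (inferInstance : Group (Q ⧸ frattini Q)) with mul_comm := hVc }
  have hmain := Cfsg.Agent.Lib.Fusion.Meta.Linear.main (V := Q ⧸ frattini Q) (p := p) hexp hcard ρ.range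
    (u := u) ⟨α₀, rfl⟩ huk hu1
  obtain ⟨hcV, hup, halt⟩ := hmain
  rcases halt with ⟨_, ⟨z, rfl⟩, hz⟩ | ⟨ℓ, hℓ1, hℓ2, hℓ3⟩
  · refine ⟨(frattini Q).map Q.subtype, Subgroup.map_subtype_le _, ?_, ?_, ?_, ?_, ?_, z, ?_, ?_⟩
    · rintro α hα _ ⟨d, hd, rfl⟩
      have h1 : resAut A Q hinv ⟨α, hα⟩ d ∈ frattini Q :=
        (Cfsg.Agent.Lib.PGroup.ActionFrattini.char_mem (frattini Q) (resAut A Q hinv ⟨α, hα⟩)).2 hd
      exact ⟨_, h1, rfl⟩
    · rintro x hx _ ⟨d, hd, rfl⟩
      have h1 : (⟨x, hx⟩ : Q) * d * (⟨x, hx⟩ : Q)⁻¹ ∈ frattini Q :=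
        (inferInstance : (frattini Q).Normal).conj_mem d hd _
      exact ⟨_, h1, rfl⟩
    · intro x hx
      have h1 : (⟨x, hx⟩ : Q) ^ p ∈ frattini Q :=
        Cfsg.Agent.Lib.PGroup.FrattiniBasis.pow_mem_frattini hQp _
      exact ⟨_, h1, rfl⟩
    · rw [Subgroup.card_eq_card_quotient_mul_card_subgroup (frattini Q), hcV,
        Subgroup.card_map_of_injective Q.subtype_injective]
    · refine hbot _ (S₀.pow_mem hα₀S p) ?_
      rw [map_pow]
      exact hup
    · intro q hq
      have h1 := hz ((⟨q, hq⟩ : Q) : Q ⧸ frattini Q)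
      rw [hρ] at h1
      have h2 : ((resAut A Q hinv z ⟨q, hq⟩ * ⟨q, hq⟩ : Q) : Q ⧸ frattini Q) = 1 := by
        rw [QuotientGroup.mk_mul, h1]
        exact inv_mul_cancel _
      exact ⟨_, (QuotientGroup.eq_one_iff _).1 h2, rfl⟩
    · refine hbot _ ?_ ?_
      · exact S₀.mul_mem (hS₀.conj_mem _ hα₀S z) (S₀.inv_mem hα₀S)
      · have hcomm : ρ z * u = u * ρ z := by
          ext v
          rw [MulAut.mul_apply, MulAut.mul_apply, hz, hz, map_inv]
        have : ρ (z * α₀ * z⁻¹ * α₀⁻¹) = ρ z * u * (ρ z)⁻¹ * u⁻¹ := by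
          simp only [map_mul, map_inv, u]
        rw [this, hcomm]
        group
  · exfalso
    apply hnot
    refine mem_pCore_of_stab hG A Q hinv ℓ ?_ h0 hℓ2 hℓ3
    intro α x hx
    exact hℓ1 (ρ α) ⟨α, rfl⟩ x hx

end inverting

section final

variable {X : Type*} [Group X] [Finite X] {p : ℕ} [hp : Fact p.Prime]

omit [Finite X] hp in
/-- Commutativity of a small quotient. -/
theorem commute_quotient_center [Finite X] [Fact p.Prime] (hX : Nat.card X = p ^ 3) (a b : X ⧸ Subgroup.center X) :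
    a * b = b * a := by
  have hpp : Nat.Prime p := Fact.out
  have hXp : IsPGroup p X := IsPGroup.of_card hX
  have hnt : Nontrivial X := by
    apply (Finite.one_lt_card_iff_nontrivial).1
    rw [hX]
    exact Nat.one_lt_pow (by omega) hpp.one_lt
  have hc : Nontrivial (Subgroup.center X) := hXp.center_nontrivial
  have h1 := Subgroup.card_eq_card_quotient_mul_card_subgroup (Subgroup.center X)
  have hQp : IsPGroup p (X ⧸ Subgroup.center X) := hXp.to_quotient _
  obtain ⟨k, hk⟩ := IsPGroup.iff_card.1 hQp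
  have hZp : IsPGroup p (Subgroup.center X) := hXp.to_subgroup _
  obtain ⟨m, hm⟩ := IsPGroup.iff_card.1 hZp
  have hm0 : m ≠ 0 := by
    rintro rfl
    have := Finite.one_lt_card_iff_nontrivial.2 hc
    rw [hm] at this
    simp at this
  rw [hX, hk, hm, ← pow_add] at h1
  have h2 := Nat.pow_right_injective hpp.two_le h1
  have hk2 : k ≤ 2 := by omega
  by_cases h3 : k = 2
  · subst h3
    exact (IsPGroup.isMulCommutative_of_card_eq_prime_sq hk).is_comm.comm a b
  · have : IsCyclic (X ⧸ Subgroup.center X) := by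
      have hk1 : k = 0 ∨ k = 1 := by omega
      rcases hk1 with rfl | rfl
      · rw [pow_zero] at hk
        have := (Nat.card_eq_one_iff_unique.mp hk).1
        infer_instance
      · rw [pow_one] at hk
        exact isCyclic_of_prime_card hk
    exact (IsCyclic.isMulCommutative (α := X ⧸ Subgroup.center X)).is_comm.comm a b

/-- A group of order `p³` (`p` odd) generated by a subgroup of index `p` and exponent `p` and an
element of order `p` has exponent `p`. -/
theorem exponent_of_gen (hodd : p ≠ 2) (hX : Nat.card X = p ^ 3) (N : Subgroup X) (hNi : N.index = p)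
    (hN : ∀ n ∈ N, n ^ p = 1) {t : X} (htN : t ∉ N) (ht : t ^ p = 1) (x : X) : x ^ p = 1 := by
  have hpp : Nat.Prime p := hp.out
  have hNn : N.Normal := by
    refine Subgroup.normal_of_index_eq_minFac_card ?_
    rw [hX, hNi, Nat.Prime.pow_minFac hpp (by omega)]
  have hcent : ∀ a b : X, ⁅a, b⁆ ∈ Subgroup.center X := by
    intro a b
    rw [← QuotientGroup.eq_one_iff, commutatorElement_def, QuotientGroup.mk_mul, QuotientGroup.mk_mul,
      QuotientGroup.mk_mul, QuotientGroup.mk_inv, QuotientGroup.mk_inv,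
      commute_quotient_center hX (a : X ⧸ Subgroup.center X)]
    group
  have hcN : ∀ a b : X, ⁅a, b⁆ ∈ N := by
    intro a b
    have hQc : IsCyclic (X ⧸ N) := isCyclic_of_prime_card (p := p) hNi
    rw [← QuotientGroup.eq_one_iff, commutatorElement_def, QuotientGroup.mk_mul, QuotientGroup.mk_mul,
      QuotientGroup.mk_mul, QuotientGroup.mk_inv, QuotientGroup.mk_inv,
      (IsCyclic.isMulCommutative (α := X ⧸ N)).is_comm.comm (a : X ⧸ N)]
    group
  have hdvd : p ∣ p.choose 2 := hpp.dvd_choose_self (by omega) (by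
    have := hpp.two_le
    omega)
  let E : Subgroup X :=
    { carrier := {x | x ^ p = 1}
      one_mem' := one_pow p
      mul_mem' := by
        intro a b ha hb
        have hc := hcent b a
        have h1 : Commute a ⁅b, a⁆ := (Subgroup.mem_center_iff.1 hc) a
        have h2 : Commute b ⁅b, a⁆ := (Subgroup.mem_center_iff.1 hc) b
        show (a * b) ^ p = 1
        rw [Cfsg.Agent.Lib.PGroup.Basic.mul_pow_of_commutator_central h1 h2, ha, hb]
        obtain ⟨m, hm⟩ := hdvd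
        rw [hm, pow_mul, hN _ (hcN b a), one_pow, one_mul, one_mul]
      inv_mem' := by
        intro a ha
        show a⁻¹ ^ p = 1
        rw [inv_pow, ha, inv_one] }
  have hNE : N ≤ E := fun n hn => hN n hn
  have hrel := Subgroup.relIndex_mul_index hNE
  rw [hNi] at hrel
  have hE : E = ⊤ := by
    rcases (Nat.dvd_prime hpp).1 (Dvd.intro _ hrel) with h | h
    · exfalso
      rw [Subgroup.relIndex_eq_one] at h
      exact htN (h ht)
    · rw [h] at hrel
      have : E.index = 1 := by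
        have hpos := hpp.pos
        nlinarith
      exact Subgroup.index_eq_one.1 this
  have hxE : x ∈ E := by rw [hE]; trivial
  exact hxE

/-- The final contradiction, in a quotient. -/
theorem false_of_inverting_quotient (hodd : p ≠ 2) (hm : Cfsg.IsMetacyclic X) (hX : Nat.card X = p ^ 3) (N : Subgroup X)
    (hNi : N.index = p) (hN : ∀ n ∈ N, n ^ p = 1) (ψ : X →* X) (hψ : ∀ n ∈ N, ψ n = n⁻¹) {a : X}
    (haN : a ∉ N) (hψa : a⁻¹ * ψ a ∈ N) : False := by
  have hpp : Nat.Prime p := hp.out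
  have hNn : N.Normal := by
    refine Subgroup.normal_of_index_eq_minFac_card ?_
    rw [hX, hNi, Nat.Prime.pow_minFac hpp (by omega)]
  set q₀ := a⁻¹ * ψ a with hq₀
  obtain ⟨h, hh⟩ : ∃ h, p + 1 = 2 * h := by
    have : Odd p := hpp.odd_of_ne_two hodd
    obtain ⟨c, hc⟩ := this
    exact ⟨c + 1, by omega⟩
  have hψa' : ψ a = a * q₀ := by rw [hq₀]; group
  have hq₀p : q₀ ^ p = 1 := hN _ hψa
  have hq₀2 : q₀ * (q₀⁻¹) ^ h = q₀ ^ h := by
    have h1 : q₀ ^ (2 * h) = q₀ := by rw [← hh, pow_succ, hq₀p, one_mul]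
    rw [inv_pow, ← mul_right_inj (q₀ ^ h)⁻¹]
    have h2 : (q₀ ^ h) * (q₀ ^ h) = q₀ := by
      rw [← pow_add, ← two_mul, h1]
    calc (q₀ ^ h)⁻¹ * (q₀ * (q₀ ^ h)⁻¹) = (q₀ ^ h)⁻¹ * (((q₀ ^ h) * (q₀ ^ h)) * (q₀ ^ h)⁻¹) := by rw [h2]
      _ = (q₀ ^ h)⁻¹ * q₀ ^ h := by group
  let t := a * q₀ ^ h
  have htN : t ∉ N := by
    intro htN
    apply haN
    have : a = t * (q₀ ^ h)⁻¹ := by simp [t]
    rw [this]
    exact N.mul_mem htN (N.inv_mem (N.pow_mem hψa h))
  have hψt : ψ t = t := by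
    show ψ (a * q₀ ^ h) = a * q₀ ^ h
    rw [map_mul, map_pow, hψ _ hψa, hψa', mul_assoc, hq₀2]
  have htpN : t ^ p ∈ N := by
    rw [← hNi]
    exact Subgroup.pow_index_mem N t
  have h1 : (t ^ p)⁻¹ = t ^ p := by
    rw [← hψ _ htpN, map_pow, hψt]
  have h2 : (t ^ p) ^ 2 = 1 := by
    rw [pow_two]
    nth_rewrite 1 [← h1]
    exact inv_mul_cancel _
  have h3 : (t ^ p) ^ p = 1 := hN _ htpN
  have ht1 : t ^ p = 1 := by
    have h4 := orderOf_dvd_of_pow_eq_one h2
    have h5 := orderOf_dvd_of_pow_eq_one h3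
    have h6 : Nat.Coprime 2 p := (Nat.coprime_primes Nat.prime_two hpp).2 (Ne.symm hodd)
    have h7 : orderOf (t ^ p) = 1 := Nat.eq_one_of_dvd_coprimes h6 h4 h5
    exact orderOf_eq_one_iff.1 h7
  have hexp := exponent_of_gen hodd hX N hNi hN htN ht1
  have hle := Cfsg.Agent.Lib.PGroup.HuppertA.card_le_of_metacyclic_exponent hpp.pos hm hexp
  rw [hX] at hle
  exact absurd hle (by
    have := Nat.pow_lt_pow_right hpp.one_lt (show 2 < 3 by omega)
    omega)

/-- The final contradiction, upstairs. -/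
theorem false_of_inverting {T : Type*} [Group T] [Finite T] (hodd : p ≠ 2) (hm : Cfsg.IsMetacyclic T)
    (Q D : Subgroup T) (hDn : D.Normal) (hDQ : D ≤ Q) (hQi : Q.index = p) (hDi : D.index = p ^ 3)
    (hexp : ∀ q ∈ Q, q ^ p ∈ D) (ψ : T →* T) (hψD : ∀ d ∈ D, ψ d ∈ D) (hψ : ∀ q ∈ Q, ψ q * q ∈ D)
    {a : T} (haQ : a ∉ Q) (hψa : a⁻¹ * ψ a ∈ Q) : False := by
  let π : T →* T ⧸ D := QuotientGroup.mk' D
  have hπ : Function.Surjective π := QuotientGroup.mk'_surjective D
  have hker : π.ker = D := QuotientGroup.ker_mk' D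
  let N : Subgroup (T ⧸ D) := Q.map π
  have hNc : N.comap π = Q := by
    rw [Subgroup.comap_map_eq, hker, sup_eq_left]
    exact hDQ
  have hNi : N.index = p := by
    rw [← Subgroup.index_comap_of_surjective N hπ, hNc, hQi]
  have hle : D ≤ D.comap ψ := hψD
  let ψ' : T ⧸ D →* T ⧸ D := QuotientGroup.map D D ψ hle
  have hψ' : ∀ x : T, ψ' (x : T ⧸ D) = ((ψ x : T) : T ⧸ D) := fun _ => rfl
  have hm' : Cfsg.IsMetacyclic (T ⧸ D) :=
    Cfsg.Agent.Lib.PGroup.HuppertA.metacyclic_of_surjective π hπ hm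
  refine false_of_inverting_quotient hodd hm' hDi N hNi ?_ ψ' ?_ (a := (a : T ⧸ D)) ?_ ?_
  · rintro _ ⟨q, hq, rfl⟩
    show ((q : T) : T ⧸ D) ^ p = 1
    rw [← QuotientGroup.mk_pow]
    exact (QuotientGroup.eq_one_iff _).2 (hexp q hq)
  · rintro _ ⟨q, hq, rfl⟩
    show ψ' ((q : T) : T ⧸ D) = ((q : T) : T ⧸ D)⁻¹
    rw [hψ', eq_inv_iff_mul_eq_one, ← QuotientGroup.mk_mul]
    exact (QuotientGroup.eq_one_iff _).2 (hψ q hq)
  · intro h
    apply haQ
    have : a ∈ N.comap π := h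
    rwa [hNc] at this
  · have h1 : ((a⁻¹ * ψ a : T) : T ⧸ D) ∈ N := ⟨_, hψa, rfl⟩
    rw [QuotientGroup.mk_mul, QuotientGroup.mk_inv] at h1
    rw [hψ']
    exact h1

end final

end Cfsg.Agent.Lib.Fusion.Meta.Frat
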