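import Mathlib
import Cfsg.Prelude.Def_FusionSystem
import Cfsg.Prelude.Def_OddOrderLocal
import Cfsg.Agent.Lib.Fusion.Basic
import Cfsg.Agent.Lib.Fusion.Saturated
import Cfsg.Agent.Lib.Fusion.Normal
import Cfsg.Agent.Lib.Fusion.NormalCR
import Cfsg.Agent.Lib.Fusion.Chain
import Cfsg.Agent.Lib.Fusion.GroupSylow
import Cfsg.Agent.Lib.Fusion.RadicalConj
import Cfsg.Agent.Lib.Fusion.Meta.Frat

set_option autoImplicit false

/-!
# Strongly closed metacyclic subgroups, `p` odd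
-/

namespace Cfsg.Agent.Lib.Fusion.Meta.Main

open Cfsg Cfsg.FusionSystem
open Cfsg.Agent.Lib.Fusion.Basic Cfsg.Agent.Lib.Fusion.Saturated
open Cfsg.Agent.Lib.Fusion.NormalCR Cfsg.Agent.Lib.Fusion.Chain
open Cfsg.Agent.Lib.Fusion.Meta.Frat

theorem isMetacyclic_of_injective {H K : Type*} [Group H] [Group K] (f : H →* K)
    (hf : Function.Injective f) (hK : Cfsg.IsMetacyclic K) : Cfsg.IsMetacyclic H := by
  obtain ⟨N, hN, hc, hq⟩ := hK
  let g : H →* K ⧸ N := (QuotientGroup.mk' N).comp f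
  refine ⟨g.ker, inferInstance, ?_, ?_⟩
  · let e : g.ker →* N := (f.comp g.ker.subtype).codRestrict N (fun x => by
      have h := x.2
      rw [MonoidHom.mem_ker] at h
      simpa [g, QuotientGroup.eq_one_iff] using h)
    refine isCyclic_of_injective e ?_
    intro x y hxy
    have h1 : f x = f y := congrArg Subtype.val hxy
    exact Subtype.ext (hf h1)
  · exact isCyclic_of_injective (QuotientGroup.kerLift g) (QuotientGroup.kerLift_injective g)

variable {Ω : Type*} [Group Ω] {S : Subgroup Ω} [Finite S] {p : ℕ} [hp : Fact p.Prime]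
  {F : FusionSystem S}

omit [Finite S] hp in
theorem normConj_pow {R : Subgroup Ω} {a : Ω} (ha : a ∈ Subgroup.normalizer (R : Set Ω)) (n : ℕ)
    (x : R) : (((normConj a ha) ^ n : MulAut R) x : Ω) = a ^ n * x * (a ^ n)⁻¹ := by
  induction n generalizing x with
  | zero => simp
  | succ n ih =>
    rw [pow_succ, MulAut.mul_apply, ih, normConj_apply, pow_succ]
    group

/-- The main step, for a fully normalized centric radical subgroup. -/
theorem mem_of_fullyNormalized (hS : IsPGroup p S) (hF : F.IsSaturated p) {P R : Subgroup Ω}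
    (hP : F.StronglyClosed P) (hodd : p ≠ 2) (hm : Cfsg.IsMetacyclic P) (hFN : F.IsFullyNormalized R)
    (hC : F.IsCentric R) (hRad : F.IsRadical p R) {a : Ω} (haP : a ∈ P)
    (haN : a ∈ Subgroup.normalizer (R : Set Ω)) : a ∈ R := by
  classical
  by_contra haR
  have hRS : R ≤ S := hC.1
  have haS : a ∈ S := hP.1 haP
  have hfinR : Finite R := finite_of_le hRS
  have hRp : IsPGroup p R := isPGroup_of_le hS hRS
  let A := F.autGroup R
  let Q : Subgroup R := P.subgroupOf R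
  have hinv : ∀ α ∈ A, ∀ x ∈ Q, α x ∈ Q := fun α hα x hx =>
    StronglyClosed.aut_mem hP hRS hα x hx
  have hmQ : Cfsg.IsMetacyclic Q := by
    let f : Q →* P :=
      { toFun := fun x => ⟨((x : R) : Ω), x.2⟩
        map_one' := rfl
        map_mul' := fun _ _ => rfl }
    refine isMetacyclic_of_injective f ?_ hm
    intro x y hxy
    exact Subtype.ext (Subtype.ext (congrArg (fun w : P => (w : Ω)) hxy))
  have hα₀mem : normConj a haN ∈ autInducedBy S R := normConj_mem_autInducedBy haS haN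
  let α₀ : A := ⟨normConj a haN, autInducedBy_le_autGroup hRS hα₀mem⟩
  obtain ⟨k, hk⟩ : ∃ k, α₀ ^ (p ^ k) = 1 := by
    obtain ⟨k, hk⟩ := isPGroup_autInducedBy hS R ⟨normConj a haN, hα₀mem⟩
    refine ⟨k, Subtype.ext ?_⟩
    have h2 : (normConj a haN) ^ (p ^ k) = 1 := by
      simpa using congrArg (fun w : autInducedBy S R => (w : MulAut R)) hk
    exact h2
  have hPnorm : ∀ s ∈ S, ∀ y ∈ P, s * y * s⁻¹ ∈ P := fun s hs y hy =>
    StronglyClosed.conj_mem hP hs hy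
  have h0 : ∀ x : R, x⁻¹ * α₀.1 x ∈ Q := by
    intro x
    show ((x : Ω))⁻¹ * (a * x * a⁻¹) ∈ P
    have h1 : (x : Ω)⁻¹ * a * ((x : Ω)⁻¹)⁻¹ ∈ P := hPnorm _ (S.inv_mem (hRS x.2)) a haP
    have e : (x : Ω)⁻¹ * (a * x * a⁻¹) = ((x : Ω)⁻¹ * a * ((x : Ω)⁻¹)⁻¹) * a⁻¹ := by group
    rw [e]
    exact P.mul_mem h1 (P.inv_mem haP)
  have hnot : α₀ ∉ pCore p A := fun h => haR (mem_of_conj_mem_pCore hC hRad haS h (fun _ => rfl))
  obtain ⟨D, hDQ, hDinv, hDnorm, hDpow, hDcard, hα₀p, z, hz1, hz2⟩ :=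
    exists_inverting hRp A Q hinv hmQ hk h0 hnot
  -- `a ^ p ∈ R`
  have hapR : a ^ p ∈ R := by
    refine mem_of_conj_mem_pCore hC hRad (S.pow_mem haS p) hα₀p (fun x => ?_)
    exact normConj_pow haN p x
  have hapP : a ^ p ∈ P := P.pow_mem haP p
  -- the inner automorphism
  have hz3 : ((z * α₀ * z⁻¹ * α₀⁻¹ : A) : MulAut R) ∈ Inn R := by
    rw [← hRad.2]
    exact ⟨_, hz2, rfl⟩
  obtain ⟨r, hr⟩ := hz3
  have hconj : ∀ y : R, ((z : MulAut R) (α₀.1 ((z : MulAut R)⁻¹ y)) : R) = r * α₀.1 y * r⁻¹ := by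
    intro y
    have h1 : (MulAut.conj r) (α₀.1 y) = ((z * α₀ * z⁻¹ * α₀⁻¹ : A) : MulAut R) (α₀.1 y) := by
      rw [← hr]
    have h2 : ((z * α₀ * z⁻¹ * α₀⁻¹ : A) : MulAut R) (α₀.1 y) =
        (z : MulAut R) (α₀.1 ((z : MulAut R)⁻¹ y)) := by
      show (z : MulAut R) (α₀.1 ((z : MulAut R)⁻¹ (α₀.1⁻¹ (α₀.1 y)))) = _
      rw [MulAut.inv_apply_self]
    rw [← h2, ← h1]
    rfl
  -- the extension
  let φz : R →* Ω := R.subtype.comp (z : MulAut R).toMonoidHom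
  have hφz : φz ∈ F.Hom R := autGroup_mem_hom hRS z.2
  have hrange : φz.range = R := by
    ext y
    constructor
    · rintro ⟨x, rfl⟩
      exact ((z : MulAut R) x).2
    · intro hy
      exact ⟨(z : MulAut R)⁻¹ ⟨y, hy⟩, congrArg Subtype.val (MulAut.apply_inv_self _ _ ⟨y, hy⟩)⟩
  have hφzv : ∀ x : R, φz x ∈ S := fun x => hRS ((z : MulAut R) x).2
  have haE : a ∈ extender S R φz := by
    refine extender_closure_mem haS haN (S.mul_mem (hRS r.2) haS) (fun x hx => ?_)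
    have h1 : (⟨a * x * a⁻¹, hx⟩ : R) = α₀.1 x := rfl
    rw [h1]
    have h2 := hconj ((z : MulAut R) x)
    rw [MulAut.inv_apply_self] at h2
    show (((z : MulAut R) (α₀.1 x) : R) : Ω) = _
    rw [h2]
    show (r : Ω) * (a * (((z : MulAut R) x : R) : Ω) * a⁻¹) * (r : Ω)⁻¹ = _
    show _ = (r : Ω) * a * (((z : MulAut R) x : R) : Ω) * ((r : Ω) * a)⁻¹
    group
  have hRE : R ≤ extender S R φz := le_extender hRS hφzv
  obtain ⟨ψ, hψ, hψag⟩ := (fullyNormalized_receptive hS hF hFN).2 R φz hφz hrange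
  have hψR : ∀ (x : R), ψ ⟨x, hRE x.2⟩ = (((z : MulAut R) x : R) : Ω) := fun x =>
    hψag x x.2 (hRE x.2)
  let b : Ω := ψ ⟨a, haE⟩
  -- `b` acts like `r a`
  have hbconj : ∀ y : R, b * y * b⁻¹ = (r : Ω) * a * y * ((r : Ω) * a)⁻¹ := by
    intro y
    let x : R := (z : MulAut R)⁻¹ y
    have hy : ((z : MulAut R) x : R) = y := MulAut.apply_inv_self _ _ _
    have h1 : (⟨a, haE⟩ : extender S R φz) * ⟨x, hRE x.2⟩ * (⟨a, haE⟩ : extender S R φz)⁻¹ =
        ⟨(α₀.1 x : R), hRE (α₀.1 x).2⟩ := Subtype.ext rfl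
    have h2 := congrArg ψ h1
    rw [map_mul, map_mul, map_inv, hψR, hψR, hy] at h2
    have h3 := hconj y
    have h4 : (((z : MulAut R) (α₀.1 x) : R) : Ω) = (r : Ω) * (a * y * a⁻¹) * (r : Ω)⁻¹ :=
      congrArg Subtype.val h3
    rw [h2, h4]
    group
  have hbS : b ∈ S := by
    exact map_mem_S hψ ⟨a, haE⟩
  have hbP : b ∈ P := by
    have hle : P ⊓ extender S R φz ≤ extender S R φz := inf_le_right
    exact hP.2 (P ⊓ extender S R φz) inf_le_left _ (res_mem hψ hle) ⟨a, haP, haE⟩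
  have hcR : ((r : Ω) * a)⁻¹ * b ∈ R := by
    have hmem : ((r : Ω) * a)⁻¹ * b ∈ centralizerIn S R := by
      refine ⟨S.mul_mem (S.inv_mem (S.mul_mem (hRS r.2) haS)) hbS, ?_⟩
      show ((r : Ω) * a)⁻¹ * b ∈ Subgroup.centralizer (R : Set Ω)
      rw [Subgroup.mem_centralizer_iff]
      intro y hy
      have := hbconj ⟨y, hy⟩
      simp only at this
      calc y * (((r : Ω) * a)⁻¹ * b) = ((r : Ω) * a)⁻¹ * ((r : Ω) * a * y * ((r : Ω) * a)⁻¹) * b := by
            group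
        _ = ((r : Ω) * a)⁻¹ * (b * y * b⁻¹) * b := by rw [this]
        _ = ((r : Ω) * a)⁻¹ * b * y := by group
    exact hC.2 R (Basic.IsConj.refl hRS) hmem
  have habR : a⁻¹ * b ∈ R := by
    have h1 : a⁻¹ * (r : Ω) * a⁻¹⁻¹ ∈ R := by
      have := (Subgroup.mem_normalizer_iff.1 (Subgroup.inv_mem _ haN)) r
      exact this.1 r.2
    have e : a⁻¹ * b = (a⁻¹ * (r : Ω) * a⁻¹⁻¹) * (((r : Ω) * a)⁻¹ * b) := by group
    rw [e]
    exact R.mul_mem h1 hcR
  have habP : a⁻¹ * b ∈ P := P.mul_mem (P.inv_mem haP) hbP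
  -- the subgroups of `Ω`
  let QΩ : Subgroup Ω := Q.map R.subtype
  have hQΩ : QΩ = P ⊓ R := Subgroup.subgroupOf_map_subtype P R
  let DΩ : Subgroup Ω := D.map R.subtype
  have hmemQ : ∀ x : R, (x : Ω) ∈ QΩ ↔ x ∈ Q := by
    intro x
    constructor
    · rintro ⟨y, hy, hyx⟩
      have : y = x := Subtype.ext hyx
      rwa [← this]
    · intro hx
      exact ⟨x, hx, rfl⟩
  have hQΩR : QΩ ≤ R := Subgroup.map_subtype_le _
  have hDΩR : DΩ ≤ R := Subgroup.map_subtype_le _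
  have hDΩQ : DΩ ≤ QΩ := Subgroup.map_mono hDQ
  have hmemD : ∀ x : R, (x : Ω) ∈ DΩ ↔ x ∈ D := by
    intro x
    constructor
    · rintro ⟨y, hy, hyx⟩
      have : y = x := Subtype.ext hyx
      rwa [← this]
    · intro hx
      exact ⟨x, hx, rfl⟩
  have haQΩ : a ∉ QΩ := fun h => haR (hQΩR h)
  have haNP : a ∈ Subgroup.normalizer (P : Set Ω) := StronglyClosed.le_normalizer hP haS
  have haNQ : a ∈ Subgroup.normalizer (QΩ : Set Ω) := by
    rw [Subgroup.mem_normalizer_iff]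
    intro h
    show h ∈ QΩ ↔ a * h * a⁻¹ ∈ QΩ
    rw [hQΩ, Subgroup.mem_inf, Subgroup.mem_inf]
    exact and_congr ((Subgroup.mem_normalizer_iff.1 haNP) h) ((Subgroup.mem_normalizer_iff.1 haN) h)
  have hzN : Subgroup.zpowers a ≤ Subgroup.normalizer (QΩ : Set Ω) := Subgroup.zpowers_le.2 haNQ
  let T : Subgroup Ω := Subgroup.zpowers a ⊔ QΩ
  have hQT : QΩ ≤ T := le_sup_right
  have haT : a ∈ T := (le_sup_left : Subgroup.zpowers a ≤ T) (Subgroup.mem_zpowers a)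
  have hDT : DΩ ≤ T := hDΩQ.trans hQT
  have hQΩP : QΩ ≤ P := hQΩ ▸ inf_le_left
  have hTP : T ≤ P := sup_le (Subgroup.zpowers_le.2 haP) hQΩP
  have hTE : T ≤ extender S R φz := sup_le (Subgroup.zpowers_le.2 haE) (hQΩR.trans hRE)
  have habQ : a⁻¹ * b ∈ QΩ := hQΩ ▸ ⟨habP, habR⟩
  have hbT : b ∈ T := by
    have e : b = a * (a⁻¹ * b) := by group
    rw [e]
    exact T.mul_mem haT (hQT habQ)
  have hψcoe : ∀ (t : Ω) (ht : t ∈ extender S R φz) (x : R), t = x → ψ ⟨t, ht⟩ = (((z : MulAut R) x : R) : Ω) := by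
    rintro t ht x rfl
    exact hψR x
  have hTelt : ∀ t ∈ T, ∃ k : ℤ, ∃ y ∈ QΩ, t = a ^ k * y := by
    intro t ht
    obtain ⟨x, hx, y, hy, rfl⟩ := Cfsg.Agent.Lib.Fusion.GroupSylow.exists_mul_of_mem_sup hzN ht
    obtain ⟨k, rfl⟩ := Subgroup.mem_zpowers_iff.1 hx
    exact ⟨k, y, hy, rfl⟩
  let ψT0 : T →* Ω := ψ.comp (Subgroup.inclusion hTE)
  have hv : ∀ t : T, ψT0 t ∈ T := by
    rintro ⟨t, ht⟩
    obtain ⟨k, y, hy, rfl⟩ := hTelt t ht
    obtain ⟨x, hx, rfl⟩ := hy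
    have hyE : ((x : R) : Ω) ∈ extender S R φz := hRE x.2
    have e : Subgroup.inclusion hTE ⟨a ^ k * (x : Ω), ht⟩ =
        (⟨a, haE⟩ : extender S R φz) ^ k * ⟨(x : Ω), hyE⟩ := Subtype.ext (by simp)
    show ψ (Subgroup.inclusion hTE ⟨a ^ k * (x : Ω), ht⟩) ∈ T
    rw [e, map_mul, map_zpow]
    refine T.mul_mem (T.zpow_mem hbT k) (hQT ?_)
    rw [hψR x]
    exact ⟨_, hinv _ z.2 x hx, rfl⟩
  let ψT : T →* T := ψT0.codRestrict T hv
  have hψTcoe : ∀ t : T, (ψT t : Ω) = ψ ⟨t, hTE t.2⟩ := fun _ => rfl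
  have hQTn : T ≤ Subgroup.normalizer (QΩ : Set Ω) := sup_le hzN Subgroup.le_normalizer
  have haND : a ∈ Subgroup.normalizer (DΩ : Set Ω) := by
    rw [Subgroup.mem_normalizer_iff]
    intro h
    show h ∈ DΩ ↔ a * h * a⁻¹ ∈ DΩ
    constructor
    · rintro ⟨d, hd, rfl⟩
      exact ⟨α₀.1 d, hDinv _ α₀.2 d hd, rfl⟩
    · rintro ⟨d, hd, hde⟩
      have h1 := hDinv _ (A.inv_mem α₀.2) d hd
      refine ⟨_, h1, ?_⟩
      show a⁻¹ * (d : Ω) * a = h
      have : (d : Ω) = a * h * a⁻¹ := hde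
      rw [this]
      group
  have hQND : QΩ ≤ Subgroup.normalizer (DΩ : Set Ω) := by
    rintro _ ⟨x, hx, rfl⟩
    rw [Subgroup.mem_normalizer_iff]
    intro h
    show h ∈ DΩ ↔ (x : Ω) * h * (x : Ω)⁻¹ ∈ DΩ
    constructor
    · rintro ⟨d, hd, rfl⟩
      exact ⟨x * d * x⁻¹, hDnorm x hx d hd, rfl⟩
    · rintro ⟨d, hd, hde⟩
      have h1 := hDnorm x⁻¹ (Q.inv_mem hx) d hd
      refine ⟨_, h1, ?_⟩
      have : (d : Ω) = (x : Ω) * h * (x : Ω)⁻¹ := hde
      show (x : Ω)⁻¹ * (d : Ω) * ((x : Ω)⁻¹)⁻¹ = h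
      rw [this]
      group
  have hDTn : T ≤ Subgroup.normalizer (DΩ : Set Ω) := sup_le (Subgroup.zpowers_le.2 haND) hQND
  let QT : Subgroup T := QΩ.subgroupOf T
  let DT : Subgroup T := DΩ.subgroupOf T
  have hQTnormal : QT.Normal := (Subgroup.normal_subgroupOf_iff_le_normalizer hQT).2 hQTn
  have hDTnormal : DT.Normal := (Subgroup.normal_subgroupOf_iff_le_normalizer hDT).2 hDTn
  have hpp : Nat.Prime p := hp.out
  have hfinT : Finite T := finite_of_le (hTP.trans hP.1)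
  have hmT : Cfsg.IsMetacyclic T :=
    isMetacyclic_of_injective (Subgroup.inclusion hTP) (Subgroup.inclusion_injective hTP) hm
  -- the index of `QT`
  let a' : T := ⟨a, haT⟩
  have hQi : QT.index = p := by
    let ā : T ⧸ QT := (a' : T)
    have hā1 : ā ≠ 1 := by
      intro h
      have h2 : a' ∈ QT := (QuotientGroup.eq_one_iff a').1 h
      exact haQΩ h2
    have hāp : ā ^ p = 1 := by
      show ((a' : T) : T ⧸ QT) ^ p = 1
      rw [← QuotientGroup.mk_pow]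
      refine (QuotientGroup.eq_one_iff _).2 ?_
      show a ^ p ∈ QΩ
      rw [hQΩ]
      exact ⟨hapP, hapR⟩
    have ho : orderOf ā = p := orderOf_eq_prime hāp hā1
    have hgen : ∀ w : T ⧸ QT, w ∈ Subgroup.zpowers ā := by
      intro w
      obtain ⟨⟨t, ht⟩, rfl⟩ := QuotientGroup.mk_surjective w
      obtain ⟨k, y, hy, rfl⟩ := hTelt t ht
      refine ⟨k, ?_⟩
      have e : (⟨a ^ k * y, ht⟩ : T) = a' ^ k * ⟨y, hQT hy⟩ := Subtype.ext (by simp [a'])
      have hy1 : ((⟨y, hQT hy⟩ : T) : T ⧸ QT) = 1 := (QuotientGroup.eq_one_iff _).2 hy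
      show ā ^ k = _
      rw [e, QuotientGroup.mk_mul, hy1, mul_one, QuotientGroup.mk_zpow]
    have h1 := orderOf_eq_card_of_forall_mem_zpowers hgen
    rw [Subgroup.index, ← h1, ho]
  -- the index of `DT`
  have hDi : DT.index = p ^ 3 := by
    have hc1 : Nat.card QT = Nat.card Q := by
      rw [Nat.card_congr (Subgroup.subgroupOfEquivOfLe hQT).toEquiv]
      exact Subgroup.card_map_of_injective R.subtype_injective
    have hc2 : Nat.card DT = Nat.card D := by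
      rw [Nat.card_congr (Subgroup.subgroupOfEquivOfLe hDT).toEquiv]
      exact Subgroup.card_map_of_injective R.subtype_injective
    have h1 := QT.card_mul_index
    have h2 := DT.card_mul_index
    rw [hc1, hDcard, hQi] at h1
    rw [hc2] at h2
    have h3 : Nat.card D * DT.index = Nat.card D * p ^ 3 := by
      rw [h2, ← h1]
      ring
    exact Nat.eq_of_mul_eq_mul_left Nat.card_pos h3
  refine false_of_inverting hodd hmT QT DT hDTnormal (fun t ht => hDΩQ ht) hQi hDi ?_ ψT ?_ ?_ (a := a') ?_ ?_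
  · rintro ⟨q, hqT⟩ hq
    obtain ⟨x, hx, rfl⟩ := hq
    exact ⟨x ^ p, hDpow x hx, by simp⟩
  · rintro ⟨d, hdT⟩ hd
    obtain ⟨x, hx, rfl⟩ := hd
    show ψ ⟨(x : Ω), hTE hdT⟩ ∈ DΩ
    rw [hψcoe _ _ x rfl]
    exact ⟨_, hDinv _ z.2 x hx, rfl⟩
  · rintro ⟨q, hqT⟩ hq
    obtain ⟨x, hx, rfl⟩ := hq
    show ψ ⟨(x : Ω), hTE hqT⟩ * (x : Ω) ∈ DΩ
    rw [hψcoe _ _ x rfl]
    exact ⟨_, hz1 x hx, rfl⟩
  · exact haQΩ
  · show a⁻¹ * b ∈ QΩ
    exact habQ

/-- A strongly closed metacyclic subgroup is normal, `p` odd. -/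
theorem isNormal (hS : IsPGroup p S) (hF : F.IsSaturated p) {P : Subgroup Ω}
    (hP : F.StronglyClosed P) (hodd : p ≠ 2) (hm : Cfsg.IsMetacyclic P) : F.IsNormal P := by
  refine isNormal_of_stronglyClosed_of_le hS hF hP ?_
  intro R hC hRad
  obtain ⟨R', hconj, hFN⟩ := exists_fullyNormalized (F := F) hC.1
  have hC' : F.IsCentric R' := ⟨Basic.IsConj.le_right hconj, fun Q' hQ' => hC.2 Q' (Basic.IsConj.trans hconj hQ')⟩
  obtain ⟨φ, hφ, hr⟩ := id hconj
  have hRad' : F.IsRadical p R' := Cfsg.Agent.Lib.Fusion.RadicalConj.isRadical_of_conj hφ hr hRad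
  have hle : P ≤ R' := by
    refine le_of_normalizer_inf_le hS hC'.1 hP.1 (StronglyClosed.le_normalizer hP) ?_
    intro a ha haN
    exact mem_of_fullyNormalized hS hF hP hodd hm hFN hC' hRad' ha haN
  -- transport back
  obtain ⟨θ, hθ, hθr, -, -⟩ := exists_inv hφ hr
  have h1 := StronglyClosed.map_eq hP hle hθ
  rw [← h1]
  rintro _ ⟨x, -, rfl⟩
  rw [← hθr]
  exact ⟨x, rfl⟩

end Cfsg.Agent.Lib.Fusion.Meta.Main
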