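import Mathlib
import Cfsg.Agent.Lib.Fusion.Meta.Linear

set_option autoImplicit false

/-!
# Involutions acting on a four-group

`V` elementary abelian of order at most `4`, `B` a group of automorphisms of `V` with a nontrivial
`2`-element `u`: either `u` stabilizes a `B`-invariant line, or `B` contains an element of order
three, in the form of an automorphism without nontrivial fixed points.
-/

namespace Cfsg.Agent.Lib.Fusion.Meta.LinearTwo

open Cfsg.Agent.Lib.Fusion.Meta.Linear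

variable {V : Type*} [CommGroup V] [Finite V]

/-- The facts on a fixed-point-free automorphism of a four-group. -/
theorem fpf_props (hexp : ∀ x : V, x ^ 2 = 1) (hcard : Nat.card V = 4) (w : MulAut V)
    (hw : ∀ v, v ≠ 1 → w v ≠ v) {v : V} (hv : v ≠ 1) :
    w v ∉ Subgroup.zpowers v ∧ w (w v) = v * w v := by
  have h2 : Fact (Nat.Prime 2) := ⟨Nat.prime_two⟩
  have hle : Nat.card V ≤ 2 ^ 2 := by rw [hcard]; norm_num
  have hwv1 : w v ≠ 1 := fun h => hv ((map_eq_one_iff w (MulEquiv.injective w)).1 h)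
  have hnot : w v ∉ Subgroup.zpowers v := by
    intro h
    obtain ⟨k, hk⟩ := h
    rcases Int.even_or_odd' k with ⟨l, rfl | rfl⟩
    · apply hwv1
      rw [← hk]
      show v ^ (2 * l) = 1
      rw [zpow_mul, zpow_two, ← pow_two, hexp, one_zpow]
    · apply hw v hv
      rw [← hk]
      show v ^ (2 * l + 1) = v
      rw [zpow_add, zpow_mul, zpow_two, ← pow_two, hexp, one_zpow, one_mul, zpow_one]
  refine ⟨hnot, ?_⟩
  have hmul : v * v = 1 := by rw [← pow_two, hexp]
  have hmul' : w v * w v = 1 := by rw [← pow_two, hexp]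
  obtain ⟨i, j, hij⟩ := exists_coords hexp hle hv hnot (w (w v))
  have hw2 : w (w v) ≠ w v := hw _ hwv1
  have hw3 : w (w v) ≠ 1 := fun h => hwv1 ((map_eq_one_iff w (MulEquiv.injective w)).1 h)
  rcases Nat.even_or_odd' i with ⟨a, rfl | rfl⟩ <;> rcases Nat.even_or_odd' j with ⟨b, rfl | rfl⟩
  · exfalso
    apply hw3
    rw [hij, pow_mul, pow_mul, hexp, hexp, one_pow, one_pow, one_mul]
  · exfalso
    apply hw2
    rw [hij, pow_add, pow_mul, pow_mul, hexp, hexp, one_pow, one_pow]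
    simp
  · exfalso
    -- `w` swaps `v` and `w v`, so it fixes `v * w v`
    have h1 : w (w v) = v := by
      rw [hij, pow_add, pow_mul, pow_mul, hexp, hexp, one_pow, one_pow]
      simp
    have h3 : v * w v ≠ 1 := by
      intro h
      apply hw v hv
      have : w v = v⁻¹ := eq_inv_of_mul_eq_one_right h
      rw [this]
      exact inv_eq_of_mul_eq_one_left hmul
    apply hw _ h3
    rw [map_mul, h1, mul_comm]
  · rw [hij, pow_add, pow_add, pow_mul, pow_mul, hexp, hexp, one_pow, one_pow]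
    simp

theorem main_two (hexp : ∀ x : V, x ^ 2 = 1) (hcard : Nat.card V ≤ 2 ^ 2) (B : Subgroup (MulAut V))
    {u : MulAut V} (huB : u ∈ B) {k : ℕ} (huk : u ^ (2 ^ k) = 1) (hu1 : u ≠ 1) :
    Nat.card V = 4 ∧ u ^ 2 = 1 ∧ ((∃ z ∈ B, ∀ v, v ≠ 1 → z v ≠ v) ∨
      ∃ ℓ : Subgroup V, (∀ β ∈ B, ∀ x ∈ ℓ, β x ∈ ℓ) ∧ (∀ x ∈ ℓ, u x = x) ∧ ∀ x, x⁻¹ * u x ∈ ℓ) := by
  classical
  have hp : Fact (Nat.Prime 2) := ⟨Nat.prime_two⟩
  -- a nontrivial fixed point
  have hVp : IsPGroup 2 V := fun x => ⟨1, by rw [pow_one]; exact hexp x⟩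
  have hnt : Nontrivial V := by
    by_contra hnt
    rw [not_nontrivial_iff_subsingleton] at hnt
    apply hu1
    ext w
    exact Subsingleton.elim _ _
  have hZp : IsPGroup 2 (Subgroup.zpowers u) := by
    refine IsPGroup.of_card (n := ?_) ?_
    · exact (Nat.dvd_prime_pow Nat.prime_two |>.1 (orderOf_dvd_of_pow_eq_one huk)).choose
    · rw [Nat.card_zpowers]
      exact (Nat.dvd_prime_pow Nat.prime_two |>.1 (orderOf_dvd_of_pow_eq_one huk)).choose_spec.2
  have hdvd : 2 ∣ Nat.card V := by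
    obtain ⟨n, hn⟩ := IsPGroup.iff_card.1 hVp
    have hone : 1 < Nat.card V := Finite.one_lt_card_iff_nontrivial.2 hnt
    rw [hn]
    refine dvd_pow_self 2 ?_
    rintro rfl
    rw [pow_zero] at hn
    omega
  have hone_fix : (1 : V) ∈ MulAction.fixedPoints (Subgroup.zpowers u) V := by
    intro g
    exact map_one (g : MulAut V)
  obtain ⟨e₁, he₁f, he₁ne⟩ := hZp.exists_fixed_point_of_prime_dvd_card_of_fixed_point V hdvd hone_fix
  have hfix : u e₁ = e₁ := he₁f ⟨u, Subgroup.mem_zpowers u⟩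
  have h1 : e₁ ≠ 1 := fun h => he₁ne h.symm
  have ho1 : orderOf e₁ = 2 := orderOf_eq_prime (hexp e₁) h1
  -- an element outside the line
  obtain ⟨e₀, he₀⟩ : ∃ e₀ : V, e₀ ∉ Subgroup.zpowers e₁ := by
    by_contra hall
    push Not at hall
    apply hu1
    ext w
    obtain ⟨i, hi⟩ := hall w
    rw [← hi, map_zpow, hfix]
    rfl
  have hcardeq : Nat.card V = 4 := by
    refine le_antisymm hcard ?_
    have h3 := Subgroup.card_eq_card_quotient_mul_card_subgroup (Subgroup.zpowers e₁)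
    rw [Nat.card_zpowers, ho1] at h3
    let b : V ⧸ Subgroup.zpowers e₁ := (e₀ : V)
    have hb : b ≠ 1 := fun h => he₀ ((QuotientGroup.eq_one_iff _).1 h)
    have hob : orderOf b = 2 := by
      refine orderOf_eq_prime ?_ hb
      show ((e₀ : V) : V ⧸ Subgroup.zpowers e₁) ^ 2 = 1
      rw [← QuotientGroup.mk_pow, hexp]
      rfl
    have h4 : 2 ≤ Nat.card (V ⧸ Subgroup.zpowers e₁) :=
      Nat.le_of_dvd Nat.card_pos (hob ▸ orderOf_dvd_natCard b)
    rw [h3]
    omega
  obtain ⟨x₀, hx₀, hs₀⟩ := exists_shift hexp hcard huk hu1 h1 hfix he₀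
  have hup : u ^ 2 = 1 := by
    apply eq_one_of_fix hexp hcard h1 he₀ (pow_fix hfix 2)
    rw [shift_pow hfix hs₀, pow_mul, hexp, one_pow, mul_one]
  refine ⟨hcardeq, hup, ?_⟩
  by_cases hinv : ∀ β ∈ B, β e₁ ∈ Subgroup.zpowers e₁
  · right
    refine ⟨Subgroup.zpowers e₁, ?_, ?_, ?_⟩
    · intro β hβ x hx
      obtain ⟨i, rfl⟩ := hx
      show β (e₁ ^ i) ∈ _
      rw [map_zpow]
      exact Subgroup.zpow_mem _ (hinv β hβ) i
    · intro x hx
      obtain ⟨i, rfl⟩ := hx
      show u (e₁ ^ i) = e₁ ^ i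
      rw [map_zpow, hfix]
    · intro w
      obtain ⟨i, j, rfl⟩ := exists_coords hexp hcard h1 he₀ w
      have e : (e₁ ^ i * e₀ ^ j)⁻¹ * u (e₁ ^ i * e₀ ^ j) = e₁ ^ (x₀ * j) := by
        rw [map_mul, map_pow, map_pow, hfix, hs₀, mul_pow, ← pow_mul, ← mul_assoc (e₁ ^ i),
          inv_mul_cancel_left]
      rw [e]
      exact Subgroup.pow_mem _ (Subgroup.mem_zpowers e₁) _
  · left
    push Not at hinv
    obtain ⟨β, hβ, he₂⟩ := hinv
    set e₂ := β e₁ with he₂def
    have h2ne : e₂ ≠ 1 := by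
      intro h
      rw [h] at he₂
      exact he₂ (one_mem _)
    have ho2 : orderOf e₂ = 2 := orderOf_eq_prime (hexp e₂) h2ne
    let v : MulAut V := β * u * β⁻¹
    have hvB : v ∈ B := B.mul_mem (B.mul_mem hβ huB) (B.inv_mem hβ)
    have hvfix : v e₂ = e₂ := by
      show β (u (β⁻¹ (β e₁))) = β e₁
      rw [MulAut.inv_apply_self, hfix]
    have hvk : v ^ (2 ^ k) = 1 := by
      have : v ^ (2 ^ k) = β * u ^ (2 ^ k) * β⁻¹ := conj_pow
      rw [this, huk]
      simp
    have hv1 : v ≠ 1 := by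
      intro h
      apply hu1
      have : u = β⁻¹ * v * β := by
        show u = β⁻¹ * (β * u * β⁻¹) * β
        group
      rw [this, h]
      simp
    have h12 : e₁ ∉ Subgroup.zpowers e₂ := by
      intro h
      have hle : Subgroup.zpowers e₁ ≤ Subgroup.zpowers e₂ := Subgroup.zpowers_le.2 h
      have heq : Subgroup.zpowers e₁ = Subgroup.zpowers e₂ :=
        Subgroup.eq_of_le_of_card_ge hle (by rw [Nat.card_zpowers, Nat.card_zpowers, ho1, ho2])
      apply he₂
      rw [heq]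
      exact Subgroup.mem_zpowers e₂
    obtain ⟨x, hx, hsu⟩ := exists_shift hexp hcard huk hu1 h1 hfix he₂
    obtain ⟨y, hy, hsv⟩ := exists_shift hexp hcard hvk hv1 h2ne hvfix h12
    have hoddpow : ∀ (e : V) (n : ℕ), ¬ 2 ∣ n → e ^ n = e := by
      intro e n hn
      obtain ⟨m, rfl⟩ : ∃ m, n = 2 * m + 1 := ⟨n / 2, by omega⟩
      rw [pow_add, pow_mul, hexp, one_pow, one_mul, pow_one]
    rw [hoddpow _ x hx] at hsu
    rw [hoddpow _ y hy] at hsv
    have he₁sq : e₁ * e₁ = 1 := by rw [← pow_two, hexp]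
    have he₂sq : e₂ * e₂ = 1 := by rw [← pow_two, hexp]
    have hne12 : e₁ ≠ e₂ := by
      intro h
      apply he₂
      rw [← h]
      exact Subgroup.mem_zpowers e₁
    let w : MulAut V := u * v
    have hw1 : w e₁ = e₂ := by
      show u (v e₁) = e₂
      rw [hsv, map_mul, hfix, hsu]
      calc e₁ * (e₂ * e₁) = (e₁ * e₁) * e₂ := by rw [mul_comm e₂, mul_assoc]
        _ = e₂ := by rw [he₁sq, one_mul]
    have hw2 : w e₂ = e₂ * e₁ := by
      show u (v e₂) = _
      rw [hvfix, hsu]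
    refine ⟨w, B.mul_mem huB hvB, fun t ht => ?_⟩
    obtain ⟨i, j, rfl⟩ := exists_coords hexp hcard h1 he₂ t
    rcases Nat.even_or_odd' i with ⟨a, rfl | rfl⟩ <;> rcases Nat.even_or_odd' j with ⟨b, rfl | rfl⟩
    · exfalso
      apply ht
      rw [pow_mul, pow_mul, hexp, hexp, one_pow, one_pow, one_mul]
    · have e : e₁ ^ (2 * a) * e₂ ^ (2 * b + 1) = e₂ := by
        rw [pow_add, pow_mul, pow_mul, hexp, hexp, one_pow, one_pow]
        simp
      rw [e, hw2]
      intro h
      exact h1 (mul_eq_left.1 h)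
    · have e : e₁ ^ (2 * a + 1) * e₂ ^ (2 * b) = e₁ := by
        rw [pow_add, pow_mul, pow_mul, hexp, hexp, one_pow, one_pow]
        simp
      rw [e, hw1]
      exact hne12.symm
    · have e : e₁ ^ (2 * a + 1) * e₂ ^ (2 * b + 1) = e₁ * e₂ := by
        rw [pow_add, pow_add, pow_mul, pow_mul, hexp, hexp, one_pow, one_pow]
        simp
      rw [e, map_mul, hw1, hw2]
      intro h
      -- `e₂ (e₂ e₁) = e₁`, so `e₁ = e₁ e₂`
      have h3 : e₂ * (e₂ * e₁) = e₁ := by rw [← mul_assoc, he₂sq, one_mul]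
      rw [h3] at h
      exact h2ne (left_eq_mul.1 h)

end Cfsg.Agent.Lib.Fusion.Meta.LinearTwo
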