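import Mathlib
import Cfsg.Prelude.Def_OddOrderLocal
import Cfsg.Agent.Lib.PGroup.ActionFrattini
import Cfsg.Agent.Lib.PGroup.Basic
import Cfsg.Agent.Lib.PGroup.CyclicMax
import Cfsg.Agent.Lib.PGroup.FrattiniBasis
import Cfsg.Agent.Lib.PGroup.HuppertA
import Cfsg.Agent.Lib.Fusion.Meta.Frat
import Cfsg.Agent.Lib.Fusion.Meta.LinearTwo
import Cfsg.Agent.Lib.Fusion.Chain
import Cfsg.Agent.Lib.Basic.PCore

set_option autoImplicit false

/-!
# Metacyclic `2`-groups with an automorphism of order three on the Frattini quotient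

A metacyclic `2`-group `Q` with `|Q/Φ(Q)| = 4`, with an automorphism without fixed points on `Q/Φ(Q)`,
is abelian or of order `8`.
-/

namespace Cfsg.Agent.Lib.Fusion.Meta.Two

open Cfsg Cfsg.Agent.Lib.Fusion.Meta.Frat Cfsg.Agent.Lib.Fusion.Meta.LinearTwo
open scoped commutatorElement

section helpers

variable {Q : Type*} [Group Q] [Finite Q]

omit [Finite Q] in
theorem mem_zpowers_of_odd (hQ : IsPGroup 2 Q) (x : Q) {e : ℕ} (he : Odd e) :
    x ∈ Subgroup.zpowers (x ^ e) := by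
  obtain ⟨k, hk⟩ := (IsPGroup.iff_orderOf.1 hQ) x
  have hc : Nat.Coprime e (orderOf x) := by
    rw [hk]
    exact Nat.Coprime.pow_right k (Nat.coprime_two_right.2 he)
  obtain ⟨m, hm⟩ := exists_pow_eq_self_of_coprime hc
  exact ⟨m, by simpa using hm⟩

omit [Finite Q] in
theorem eq_one_of_odd_pow (hQ : IsPGroup 2 Q) {x : Q} {e : ℕ} (he : Odd e) (h : x ^ e = 1) :
    x = 1 := by
  have := mem_zpowers_of_odd hQ x he
  rw [h, Subgroup.zpowers_one_eq_bot] at this
  exact this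

theorem frat_comm (hQ : IsPGroup 2 Q) (a b : Q ⧸ frattini Q) : a * b = b * a := by
  obtain ⟨x, rfl⟩ := QuotientGroup.mk_surjective a
  obtain ⟨y, rfl⟩ := QuotientGroup.mk_surjective b
  have h1 : ⁅x, y⁆ ∈ frattini Q :=
    Cfsg.Agent.Lib.PGroup.FrattiniBasis.commutator_le_frattini hQ
      (Subgroup.commutator_mem_commutator trivial trivial)
  have h2 : ((⁅x, y⁆ : Q) : Q ⧸ frattini Q) = 1 := (QuotientGroup.eq_one_iff _).2 h1
  rw [commutatorElement_def, QuotientGroup.mk_mul, QuotientGroup.mk_mul, QuotientGroup.mk_mul,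
    QuotientGroup.mk_inv, QuotientGroup.mk_inv] at h2
  have h3 := congrArg (· * ((y : Q) : Q ⧸ frattini Q) * ((x : Q) : Q ⧸ frattini Q)) h2
  simpa [mul_assoc] using h3

theorem frat_exp (hQ : IsPGroup 2 Q) (v : Q ⧸ frattini Q) : v ^ 2 = 1 := by
  obtain ⟨x, rfl⟩ := QuotientGroup.mk_surjective v
  rw [← QuotientGroup.mk_pow]
  exact (QuotientGroup.eq_one_iff _).2 (Cfsg.Agent.Lib.PGroup.FrattiniBasis.pow_mem_frattini hQ x)

end helpers

section cardEight

variable {Q : Type*} [Group Q] [Finite Q]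

/-- **Key lemma**: a metacyclic `2`-group with a fixed point free automorphism on the four-group
`Q/Φ(Q)` is abelian or of order `8`. -/
theorem abelian_or_card_eight (hQ : IsPGroup 2 Q) (hcard : Nat.card (Q ⧸ frattini Q) = 4)
    (σ : MulAut Q) (hfpf : ∀ v : Q ⧸ frattini Q, v ≠ 1 → fratAut Q σ v ≠ v)
    (hm : Cfsg.IsMetacyclic Q) : (∀ x y : Q, x * y = y * x) ∨ Nat.card Q = 8 := by
  classical
  have h2 : Nat.Prime 2 := Nat.prime_two
  have hfact : Fact (Nat.Prime 2) := ⟨h2⟩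
  obtain ⟨L, hLn, hLc, hQL⟩ := hm
  obtain ⟨m₁, rfl⟩ := Cfsg.Agent.Lib.PGroup.CyclicMax.exists_zpowers_eq_of_isCyclic L hLc
  -- the quotient
  have hVc := frat_comm hQ
  have hVe := frat_exp hQ
  let instV : CommGroup (Q ⧸ frattini Q) :=
    { (inferInstance : Group (Q ⧸ frattini Q)) with mul_comm := hVc }
  have hm₁Φ : m₁ ∉ frattini Q := by
    intro h
    have hle : Subgroup.zpowers m₁ ≤ frattini Q := Subgroup.zpowers_le.2 h
    have hsurj : Function.Surjective
        (QuotientGroup.map (Subgroup.zpowers m₁) (frattini Q) (MonoidHom.id Q) hle) := by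
      intro q
      obtain ⟨y, rfl⟩ := QuotientGroup.mk_surjective q
      exact ⟨(y : Q ⧸ Subgroup.zpowers m₁), rfl⟩
    have hcyc : IsCyclic (Q ⧸ frattini Q) := isCyclic_of_surjective _ hsurj
    have := Cfsg.Agent.Lib.PGroup.HuppertA.card_le_of_cyclic_exponent (by norm_num : 0 < 2) hVe
    omega
  let v₁ : Q ⧸ frattini Q := (m₁ : Q)
  have hv₁ : v₁ ≠ 1 := fun h => hm₁Φ ((QuotientGroup.eq_one_iff _).1 h)
  obtain ⟨hnz, hww⟩ := fpf_props (V := Q ⧸ frattini Q) hVe hcard (fratAut Q σ) hfpf hv₁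
  let m₂ : Q := σ m₁
  let m₃ : Q := σ m₂
  have hv₂ : fratAut Q σ v₁ = (m₂ : Q) := rfl
  have hv₃ : fratAut Q σ ((m₂ : Q) : Q ⧸ frattini Q) = (m₃ : Q) := rfl
  have h31 : m₃⁻¹ * (m₁ * m₂) ∈ frattini Q := by
    rw [← QuotientGroup.eq_one_iff]
    rw [hv₂, hv₃] at hww
    rw [QuotientGroup.mk_mul, QuotientGroup.mk_mul, QuotientGroup.mk_inv, hww]
    exact inv_mul_cancel _
  have hnot12 : m₁ ∉ Subgroup.zpowers m₂ := by
    rintro ⟨k, hk⟩
    have hk' : m₂ ^ k = m₁ := hk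
    have h3 : ((m₂ : Q) : Q ⧸ frattini Q) ^ k = v₁ := by
      rw [← QuotientGroup.mk_zpow, hk']
    rcases Int.even_or_odd' k with ⟨l, rfl | rfl⟩
    · apply hv₁
      rw [← h3, zpow_mul, zpow_two, ← pow_two, hVe, one_zpow]
    · apply hfpf _ hv₁
      rw [hv₂, ← h3, zpow_add, zpow_mul, zpow_two, ← pow_two, hVe, one_zpow, one_mul, zpow_one]
  -- generation
  have hgen : Subgroup.zpowers m₁ ⊔ Subgroup.zpowers m₂ = ⊤ := by
    apply frattini_nongenerating
    rw [eq_top_iff]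
    intro y _
    obtain ⟨i, j, hij⟩ := Cfsg.Agent.Lib.Fusion.Meta.Linear.exists_coords (p := 2) (V := Q ⧸ frattini Q)
      hVe (by rw [hcard]; norm_num) hv₁ hnz (y : Q ⧸ frattini Q)
    have hmem : (m₁ ^ i * m₂ ^ j)⁻¹ * y ∈ frattini Q := by
      rw [← QuotientGroup.eq_one_iff, QuotientGroup.mk_mul, QuotientGroup.mk_inv, hij,
        QuotientGroup.mk_mul, QuotientGroup.mk_pow, QuotientGroup.mk_pow]
      exact inv_mul_cancel _
    have e : y = (m₁ ^ i * m₂ ^ j) * ((m₁ ^ i * m₂ ^ j)⁻¹ * y) := by group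
    rw [e]
    refine mul_mem ((le_sup_left : _ ≤ (Subgroup.zpowers m₁ ⊔ Subgroup.zpowers m₂) ⊔ frattini Q) ?_)
      ((le_sup_right : frattini Q ≤ _) hmem)
    exact mul_mem ((le_sup_left : _ ≤ Subgroup.zpowers m₁ ⊔ Subgroup.zpowers m₂)
        (pow_mem (Subgroup.mem_zpowers m₁) i))
      ((le_sup_right : _ ≤ Subgroup.zpowers m₁ ⊔ Subgroup.zpowers m₂)
        (pow_mem (Subgroup.mem_zpowers m₂) j))
  -- commutators
  have hcomm1 : ∀ x y : Q, ⁅x, y⁆ ∈ Subgroup.zpowers m₁ := by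
    intro x y
    rw [← QuotientGroup.eq_one_iff, commutatorElement_def, QuotientGroup.mk_mul, QuotientGroup.mk_mul,
      QuotientGroup.mk_mul, QuotientGroup.mk_inv, QuotientGroup.mk_inv,
      (IsCyclic.isMulCommutative (α := Q ⧸ Subgroup.zpowers m₁)).is_comm.comm (x : Q ⧸ Subgroup.zpowers m₁)]
    group
  have hcomm2 : ∀ x y : Q, ⁅x, y⁆ ∈ Subgroup.zpowers m₂ := by
    intro x y
    obtain ⟨k, hk⟩ := hcomm1 (σ⁻¹ x) (σ⁻¹ y)
    refine ⟨k, ?_⟩
    have h3 := congrArg σ hk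
    rw [map_zpow, map_commutatorElement, MulAut.apply_inv_self, MulAut.apply_inv_self] at h3
    exact h3
  -- the orders
  have ho₂ : orderOf m₂ = orderOf m₁ := MulEquiv.orderOf_eq σ m₁
  obtain ⟨ℓ, hℓ⟩ := (IsPGroup.iff_orderOf.1 hQ) m₁
  -- the least `s`
  have hex : ∃ s : ℕ, m₁ ^ (2 ^ s) ∈ Subgroup.zpowers m₂ := ⟨ℓ, by
    rw [← hℓ, pow_orderOf_eq_one]
    exact one_mem _⟩
  let s := Nat.find hex
  have hs : m₁ ^ (2 ^ s) ∈ Subgroup.zpowers m₂ := Nat.find_spec hex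
  have hsmin : ∀ t : ℕ, m₁ ^ (2 ^ t) ∈ Subgroup.zpowers m₂ → s ≤ t := fun t ht => Nat.find_min' hex ht
  have hs1 : 1 ≤ s := by
    by_contra h
    have h0 : s = 0 := by omega
    rw [h0, pow_zero, pow_one] at hs
    exact hnot12 hs
  let N := 2 ^ s
  -- the relation
  obtain ⟨e, he, hrel⟩ : ∃ e : ℕ, Odd e ∧ m₁ ^ N = (m₂ ^ N) ^ e := by
    by_cases hd : m₁ ^ N = 1
    · refine ⟨1, odd_one, ?_⟩
      have h3 : orderOf m₂ ∣ N := by
        rw [ho₂]
        exact orderOf_dvd_of_pow_eq_one hd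
      rw [hd, pow_one, orderOf_dvd_iff_pow_eq_one.1 h3]
    · obtain ⟨k, hk⟩ := mem_powers_iff_mem_zpowers.2 hs
      have hk' : m₂ ^ k = m₁ ^ N := hk
      have hk0 : k ≠ 0 := by
        rintro rfl
        apply hd
        rw [← hk', pow_zero]
      obtain ⟨t, o, ho, rfl⟩ := Nat.exists_eq_two_pow_mul_odd hk0
      -- orders
      have hsℓ : s < ℓ := by
        by_contra hc
        apply hd
        have : 2 ^ ℓ ∣ N := pow_dvd_pow 2 (by omega)
        rw [← hℓ] at this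
        exact orderOf_dvd_iff_pow_eq_one.1 this
      have htℓ : t < ℓ := by
        by_contra hc
        apply hd
        rw [← hk', pow_mul]
        have : orderOf m₂ ∣ 2 ^ t := by
          rw [ho₂, hℓ]
          exact pow_dvd_pow 2 (by omega)
        rw [orderOf_dvd_iff_pow_eq_one.1 this, one_pow]
      have hord : ∀ (x : Q) (r : ℕ), orderOf x = 2 ^ ℓ → r ≤ ℓ → orderOf (x ^ (2 ^ r)) = 2 ^ (ℓ - r) := by
        intro x r hx hr
        rw [orderOf_pow' x (by positivity), hx, Nat.gcd_eq_right (pow_dvd_pow 2 hr),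
          Nat.pow_div hr (by norm_num)]
      have h3 : orderOf (m₁ ^ N) = 2 ^ (ℓ - s) := hord m₁ s hℓ hsℓ.le
      have h4 : orderOf (m₂ ^ 2 ^ t) = 2 ^ (ℓ - t) := hord m₂ t (ho₂.trans hℓ) htℓ.le
      have h5 : orderOf (m₂ ^ (2 ^ t * o)) = 2 ^ (ℓ - t) := by
        rw [pow_mul, orderOf_pow' _ (by
          rintro rfl
          simp at ho), h4]
        have : Nat.gcd (2 ^ (ℓ - t)) o = 1 :=
          Nat.Coprime.pow_left _ (Nat.coprime_two_left.2 ho)
        rw [this, Nat.div_one]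
      rw [hk'] at h5
      rw [h3] at h5
      have h6 : ℓ - s = ℓ - t := Nat.pow_right_injective (le_refl 2) h5
      have h7 : t = s := by omega
      refine ⟨o, ho, ?_⟩
      rw [← hk', h7, pow_mul]
  have hrel2 : m₂ ^ N = (m₃ ^ N) ^ e := by
    have h3 := congrArg σ hrel
    rw [map_pow, map_pow, map_pow] at h3
    exact h3
  let w : Q := m₃ ^ N
  have hwm₂ : m₂ ^ N = w ^ e := hrel2
  have hwm₁ : m₁ ^ N = w ^ (e * e) := by rw [hrel, hwm₂, pow_mul]
  have hee : Odd (e * e) := he.mul he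
  have hw₂ : w ∈ Subgroup.zpowers m₂ := by
    have h3 := mem_zpowers_of_odd hQ w he
    rw [← hwm₂] at h3
    exact (Subgroup.zpowers_le.2 (pow_mem (Subgroup.mem_zpowers m₂) N)) h3
  have hw₁ : w ∈ Subgroup.zpowers m₁ := by
    have h3 := mem_zpowers_of_odd hQ w hee
    rw [← hwm₁] at h3
    exact (Subgroup.zpowers_le.2 (pow_mem (Subgroup.mem_zpowers m₁) N)) h3
  -- `w` is central
  have hzcomm : ∀ (g : Q) {a b : Q}, a ∈ Subgroup.zpowers g → b ∈ Subgroup.zpowers g → a * b = b * a := by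
    rintro g _ _ ⟨i, rfl⟩ ⟨j, rfl⟩
    exact ((Commute.refl g).zpow_zpow i j).eq
  have hcent : ∀ y : Q, y * w = w * y := by
    have hle : Subgroup.zpowers m₁ ⊔ Subgroup.zpowers m₂ ≤ Subgroup.centralizer ({w} : Set Q) := by
      refine sup_le ?_ ?_
      · intro y hy
        rw [Subgroup.mem_centralizer_singleton_iff]
        exact hzcomm m₁ hy hw₁
      · intro y hy
        rw [Subgroup.mem_centralizer_singleton_iff]
        exact hzcomm m₂ hy hw₂
    rw [hgen] at hle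
    intro y
    exact Subgroup.mem_centralizer_singleton_iff.1 (hle (Subgroup.mem_top y))
  let D : Subgroup Q := Subgroup.zpowers w
  have hDcent : ∀ d ∈ D, ∀ y : Q, y * d = d * y := by
    rintro _ ⟨i, rfl⟩ y
    exact (Commute.zpow_right (hcent y) i).eq
  -- commutators lie in `D`
  have hcD : ∀ x y : Q, ⁅x, y⁆ ∈ D := by
    intro x y
    obtain ⟨j, hj⟩ := mem_powers_iff_mem_zpowers.2 (hcomm1 x y)
    have hj' : m₁ ^ j = ⁅x, y⁆ := hj
    by_cases hj0 : j = 0
    · rw [← hj', hj0, pow_zero]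
      exact one_mem _
    obtain ⟨a, o, ho, hao⟩ := Nat.exists_eq_two_pow_mul_odd hj0
    have h3 : m₁ ^ (2 ^ a) ∈ Subgroup.zpowers m₂ := by
      have h4 := mem_zpowers_of_odd hQ (m₁ ^ (2 ^ a)) ho
      rw [← pow_mul, ← hao, hj'] at h4
      exact (Subgroup.zpowers_le.2 (hcomm2 x y)) h4
    have h5 : s ≤ a := hsmin a h3
    have h6 : N ∣ j := by
      rw [hao]
      exact Dvd.dvd.mul_right (pow_dvd_pow 2 h5) o
    obtain ⟨r, hr⟩ := h6
    rw [← hj', hr, pow_mul, hwm₁]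
    exact pow_mem (pow_mem (Subgroup.mem_zpowers w) _) r
  have hcommute : ∀ x y : Q, Commute x ⁅y, x⁆ := fun x y => hDcent _ (hcD y x) x
  have hmulpow : ∀ (x y : Q) (n : ℕ), (x * y) ^ n = x ^ n * y ^ n * ⁅y, x⁆ ^ n.choose 2 := by
    intro x y n
    exact Cfsg.Agent.Lib.PGroup.Basic.mul_pow_of_commutator_central (hcommute x y)
      (hDcent _ (hcD y x) y) n
  -- all `N`-th powers lie in `D`
  have hpowD : ∀ y : Q, y ^ N ∈ D := by
    let E₁ : Subgroup Q :=
      { carrier := {y | y ^ N ∈ D}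
        one_mem' := by
          show (1 : Q) ^ N ∈ D
          rw [one_pow]
          exact one_mem _
        mul_mem' := by
          intro a b ha hb
          show (a * b) ^ N ∈ D
          rw [hmulpow]
          exact mul_mem (mul_mem ha hb) (pow_mem (hcD b a) _)
        inv_mem' := by
          intro a ha
          show a⁻¹ ^ N ∈ D
          rw [inv_pow]
          exact inv_mem ha }
    have h1 : m₁ ∈ E₁ := by
      show m₁ ^ N ∈ D
      rw [hwm₁]
      exact pow_mem (Subgroup.mem_zpowers w) _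
    have h2' : m₂ ∈ E₁ := by
      show m₂ ^ N ∈ D
      rw [hwm₂]
      exact pow_mem (Subgroup.mem_zpowers w) _
    have hle : Subgroup.zpowers m₁ ⊔ Subgroup.zpowers m₂ ≤ E₁ :=
      sup_le (Subgroup.zpowers_le.2 h1) (Subgroup.zpowers_le.2 h2')
    rw [hgen] at hle
    exact fun y => hle (Subgroup.mem_top y)
  have hsqΔ : ∀ d ∈ D, d ^ 2 ∈ Subgroup.zpowers (w ^ 2) := by
    rintro _ ⟨i, rfl⟩
    refine ⟨i, ?_⟩
    show (w ^ 2) ^ i = (w ^ i) ^ 2
    rw [← zpow_natCast, ← zpow_natCast, ← zpow_mul, ← zpow_mul, mul_comm]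
  by_cases hab : ∀ x y : Q, x * y = y * x
  · exact Or.inl hab
  refine Or.inr ?_
  have hw1 : w ≠ 1 := by
    intro h
    apply hab
    intro x y
    have h3 := hcD x y
    have h4 : D = ⊥ := by
      show Subgroup.zpowers w = ⊥
      rw [h, Subgroup.zpowers_one_eq_bot]
    rw [h4, Subgroup.mem_bot, commutatorElement_eq_one_iff_mul_comm] at h3
    exact h3
  have hNeven : 2 ∣ N := dvd_pow_self 2 (by omega)
  by_cases H : ∀ x y : Q, ⁅y, x⁆ ^ N.choose 2 ∈ Subgroup.zpowers (w ^ 2)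
  · -- contradiction
    exfalso
    let M₀ : Subgroup Q :=
      { carrier := {y | y ^ N ∈ Subgroup.zpowers (w ^ 2)}
        one_mem' := by
          show (1 : Q) ^ N ∈ Subgroup.zpowers (w ^ 2)
          rw [one_pow]
          exact one_mem _
        mul_mem' := by
          intro a b ha hb
          show (a * b) ^ N ∈ Subgroup.zpowers (w ^ 2)
          rw [hmulpow]
          exact mul_mem (mul_mem ha hb) (H a b)
        inv_mem' := by
          intro a ha
          show a⁻¹ ^ N ∈ Subgroup.zpowers (w ^ 2)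
          rw [inv_pow]
          exact inv_mem ha }
    have hΔD : Subgroup.zpowers (w ^ 2) ≤ D :=
      Subgroup.zpowers_le.2 (pow_mem (Subgroup.mem_zpowers w) 2)
    have hM₀n : M₀.Normal := by
      refine ⟨fun y hy g => ?_⟩
      show (g * y * g⁻¹) ^ N ∈ Subgroup.zpowers (w ^ 2)
      have h3 : (g * y * g⁻¹) ^ N = g * y ^ N * g⁻¹ := conj_pow
      have hy' : y ^ N ∈ Subgroup.zpowers (w ^ 2) := hy
      rw [h3, hDcent _ (hΔD hy') g]
      simpa using hy'
    have hcommM : commutator Q ≤ M₀ := by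
      rw [commutator_def, Subgroup.commutator_le]
      intro a _ b _
      show ⁅a, b⁆ ^ N ∈ Subgroup.zpowers (w ^ 2)
      obtain ⟨M, hM⟩ := hNeven
      rw [hM, pow_mul]
      exact pow_mem (hsqΔ _ (hcD a b)) _
    have hpowM : ∀ x : Q, x ^ 2 ∈ M₀ := by
      intro x
      show (x ^ 2) ^ N ∈ Subgroup.zpowers (w ^ 2)
      have e : (x ^ 2) ^ N = (x ^ N) ^ 2 := by rw [← pow_mul, ← pow_mul, mul_comm]
      rw [e]
      exact hsqΔ _ (hpowD x)
    have hΦ := Cfsg.Agent.Lib.PGroup.ActionFrattini.frattini_le hQ M₀ hcommM hpowM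
    have hm12 : m₁ * m₂ ∈ M₀ := by
      show (m₁ * m₂) ^ N ∈ Subgroup.zpowers (w ^ 2)
      rw [hmulpow]
      refine mul_mem ?_ (H _ _)
      rw [hwm₁, hwm₂, ← pow_add]
      obtain ⟨c, hc⟩ : Even (e * e + e) := hee.add_odd he
      rw [hc, ← two_mul, pow_mul]
      exact pow_mem (Subgroup.mem_zpowers _) _
    have hm3 : m₃ ∈ M₀ := by
      have e3 : m₃ = (m₁ * m₂) * (m₃⁻¹ * (m₁ * m₂))⁻¹ := by group
      rw [e3]
      exact mul_mem hm12 (inv_mem (hΦ h31))
    have hwΔ : w ∈ Subgroup.zpowers (w ^ 2) := hm3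
    obtain ⟨k, hk⟩ := mem_powers_iff_mem_zpowers.2 hwΔ
    have hk' : (w ^ 2) ^ k = w := hk
    rcases k with _ | k
    · apply hw1
      rw [← hk']
      simp
    · have h3 : w ^ (2 * k + 1) = 1 := by
        have h4 : w ^ (2 * k + 1) * w = w := by
          rw [← pow_succ, show 2 * k + 1 + 1 = 2 * (k + 1) by ring, pow_mul]
          exact hk'
        exact mul_eq_right.1 h4
      exact hw1 (eq_one_of_odd_pow hQ ⟨k, rfl⟩ h3)
  · -- here `N = 2`, and `D` has order `2`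
    push Not at H
    obtain ⟨x, y, hxy⟩ := H
    have hs1' : s = 1 := by
      by_contra hne
      apply hxy
      obtain ⟨r, hr⟩ : ∃ r, s = r + 2 := ⟨s - 2, by omega⟩
      have hN4 : N = 4 * 2 ^ r := by
        show 2 ^ s = _
        rw [hr, pow_add]
        ring
      obtain ⟨K, hK⟩ : ∃ K, N.choose 2 = 2 * K := by
        refine ⟨2 ^ r * (N - 1), ?_⟩
        rw [Nat.choose_two_right]
        refine Nat.div_eq_of_eq_mul_left (by norm_num) ?_
        rw [hN4]
        ring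
      rw [hK, pow_mul]
      exact pow_mem (hsqΔ _ (hcD y x)) K
    have hN2 : N = 2 := by
      show 2 ^ s = 2
      rw [hs1', pow_one]
    have hch : N.choose 2 = 1 := by
      rw [hN2]
      rfl
    rw [hch, pow_one] at hxy
    have hsq : ∀ z : Q, z ^ 2 ∈ D := by
      intro z
      have := hpowD z
      rwa [hN2] at this
    obtain ⟨t, ht⟩ := mem_powers_iff_mem_zpowers.2 (hcD y x)
    have ht' : w ^ t = ⁅y, x⁆ := ht
    have htodd : Odd t := by
      rcases Nat.even_or_odd t with ⟨c, hc⟩ | h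
      · exfalso
        apply hxy
        rw [← ht', hc, ← two_mul, pow_mul]
        exact pow_mem (Subgroup.mem_zpowers _) _
      · exact h
    set c := ⁅y, x⁆ with hc
    have hc2 : c * c = 1 := by
      have hy2 : y ^ 2 * x = x * y ^ 2 := (hDcent _ (hsq y) x).symm
      have hcy : y * c = c * y := hDcent _ (hcD y x) y
      have e1 : c * c = y * c * x * y⁻¹ * x⁻¹ := by
        rw [hcy]
        simp only [hc, commutatorElement_def]
        group
      have e2 : y * c * x * y⁻¹ * x⁻¹ = (y ^ 2 * x) * (y ^ 2)⁻¹ * x⁻¹ := by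
        simp only [hc, commutatorElement_def, pow_two]
        group
      rw [e1, e2, hy2]
      group
    have hw2 : w ^ 2 = 1 := by
      refine eq_one_of_odd_pow hQ htodd ?_
      rw [← pow_mul, mul_comm, pow_mul, ht', pow_two, hc2]
    have hoD : orderOf w = 2 := orderOf_eq_prime hw2 hw1
    have hcardD : Nat.card D = 2 := by
      show Nat.card (Subgroup.zpowers w) = 2
      rw [Nat.card_zpowers, hoD]
    have hDn : D.Normal := by
      refine ⟨fun d hd g => ?_⟩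
      rw [hDcent d hd g]
      simpa using hd
    have hcommD : commutator Q ≤ D := by
      rw [commutator_def, Subgroup.commutator_le]
      intro a _ b _
      exact hcD a b
    have hΦ := Cfsg.Agent.Lib.PGroup.ActionFrattini.frattini_le hQ D hcommD hsq
    have hdvd := Subgroup.card_dvd_of_le hΦ
    rw [hcardD] at hdvd
    have hQc := Subgroup.card_eq_card_quotient_mul_card_subgroup (frattini Q)
    rw [hcard] at hQc
    rcases (Nat.dvd_prime Nat.prime_two).1 hdvd with h1 | h1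
    · exfalso
      rw [h1] at hQc
      apply hab
      have : Nat.card Q = 2 ^ 2 := by rw [hQc]; norm_num
      exact (IsPGroup.isMulCommutative_of_card_eq_prime_sq this).is_comm.comm
    · rw [hQc, h1]

end cardEight


section fpf

variable {G : Type*} [Group G] [Finite G]

theorem mem_pCore_of_trivial {p : ℕ} [hp : Fact p.Prime] (hG : IsPGroup p G) (A : Subgroup (MulAut G))
    (Q : Subgroup G) (hinv : ∀ α ∈ A, ∀ x ∈ Q, α x ∈ Q) {γ : A} (h0 : ∀ x, x⁻¹ * γ.1 x ∈ Q)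
    (h1 : ∀ x : Q, x⁻¹ * resAut A Q hinv γ x ∈ frattini Q) : γ ∈ pCore p A := by
  refine mem_pCore_of_stab hG A Q hinv ⊥ ?_ h0 ?_ ?_
  · intro α x hx
    have hx' : x = 1 := hx
    rw [hx', map_one]
    exact one_mem _
  · intro x hx
    have hx' : x = 1 := hx
    rw [hx', map_one]
  · intro v
    obtain ⟨x, rfl⟩ := QuotientGroup.mk_surjective v
    rw [fratAut_mk, ← QuotientGroup.mk_inv, ← QuotientGroup.mk_mul]
    exact (QuotientGroup.eq_one_iff _).2 (h1 x)

/-- The dichotomy for `p = 2`: a fixed point free action on the four-group `Q/Φ(Q)`. -/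
theorem exists_fpf (hG : IsPGroup 2 G) (A : Subgroup (MulAut G)) (Q : Subgroup G)
    (hinv : ∀ α ∈ A, ∀ x ∈ Q, α x ∈ Q) (hm : Cfsg.IsMetacyclic Q) {α₀ : A} {k : ℕ}
    (hk : α₀ ^ (2 ^ k) = 1) (h0 : ∀ x, x⁻¹ * α₀.1 x ∈ Q) (hnot : α₀ ∉ pCore 2 A) :
    Nat.card (Q ⧸ frattini Q) = 4 ∧ α₀ ^ 2 ∈ pCore 2 A ∧
      ∃ z : A, ∀ v : Q ⧸ frattini Q, v ≠ 1 → fratAut Q (resAut A Q hinv z) v ≠ v := by
  classical
  have hQp : IsPGroup 2 Q := hG.to_subgroup Q
  let ρ : A →* MulAut (Q ⧸ frattini Q) := (fratAut Q).comp (resAut A Q hinv)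
  have hVc := frat_comm hQp
  have hexp := frat_exp hQp
  have hcard : Nat.card (Q ⧸ frattini Q) ≤ 2 ^ 2 := by
    have h1 : Cfsg.IsMetacyclic (Q ⧸ frattini Q) :=
      Cfsg.Agent.Lib.PGroup.HuppertA.metacyclic_of_surjective (QuotientGroup.mk' _)
        (QuotientGroup.mk'_surjective _) hm
    exact Cfsg.Agent.Lib.PGroup.HuppertA.card_le_of_metacyclic_exponent (by norm_num) h1 hexp
  let D₀ : ℕ → Subgroup G := fun i => if i = 0 then Q else ⊤
  have hD₀ : ∀ i ≤ 1, ∀ α ∈ A, ∀ x ∈ D₀ i, α x ∈ D₀ i := by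
    intro i _ α hα x hx
    by_cases hi : i = 0
    · subst hi
      exact hinv α hα x hx
    · simp [D₀, hi]
  let S₀ : Subgroup A := Cfsg.Agent.Lib.Fusion.Chain.chainStab A D₀ 1 hD₀
  have hS₀mem : ∀ γ : A, γ ∈ S₀ ↔ ∀ x, x⁻¹ * γ.1 x ∈ Q := by
    intro γ
    constructor
    · intro h x
      exact h 0 (by omega) x trivial
    · intro h i hi x _
      have hi0 : i = 0 := by omega
      subst hi0
      exact h x
  have hα₀S : α₀ ∈ S₀ := (hS₀mem _).2 h0
  have hbot : ∀ γ : A, γ ∈ S₀ → ρ γ = 1 → γ ∈ pCore 2 A := by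
    intro γ hγ hρ1
    refine mem_pCore_of_stab hG A Q hinv ⊥ ?_ ((hS₀mem γ).1 hγ) ?_ ?_
    · intro α x hx
      have hx' : x = 1 := hx
      rw [hx', map_one]
      exact one_mem _
    · intro x hx
      have hx' : x = 1 := hx
      rw [hx', map_one]
    · intro x
      have h1 : fratAut Q (resAut A Q hinv γ) x = x := by
        have : ρ γ x = x := by rw [hρ1]; rfl
        exact this
      rw [h1]
      simp
  let u : MulAut (Q ⧸ frattini Q) := ρ α₀
  have huk : u ^ (2 ^ k) = 1 := by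
    rw [← map_pow, hk, map_one]
  have hu1 : u ≠ 1 := fun h => hnot (hbot α₀ hα₀S h)
  let instV : CommGroup (Q ⧸ frattini Q) := { (inferInstance : Group (Q ⧸ frattini Q)) with mul_comm := hVc }
  obtain ⟨hcV, hup, halt⟩ := main_two (V := Q ⧸ frattini Q) hexp hcard ρ.range
    (u := u) ⟨α₀, rfl⟩ huk hu1
  refine ⟨hcV, hbot _ (S₀.pow_mem hα₀S 2) (by rw [map_pow]; exact hup), ?_⟩
  rcases halt with ⟨_, ⟨z, rfl⟩, hz⟩ | ⟨ℓ, hℓ1, hℓ2, hℓ3⟩
  · exact ⟨z, hz⟩
  · exfalso
    apply hnot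
    refine mem_pCore_of_stab hG A Q hinv ℓ ?_ h0 hℓ2 hℓ3
    intro α x hx
    exact hℓ1 (ρ α) ⟨α, rfl⟩ x hx

end fpf

section abelianCase

/-- Let `Q` be an abelian subgroup of index two of a metacyclic `2`-group, and `a` outside `Q` act
nontrivially on `Q / D`. Then `Q` has an involution outside `D`. -/
theorem exists_involution {T : Type*} [Group T] [Finite T] (hT : IsPGroup 2 T)
    (hm : Cfsg.IsMetacyclic T) (Q D : Subgroup T) (hQi : Q.index = 2)
    (hQab : ∀ x ∈ Q, ∀ y ∈ Q, x * y = y * x) (hDsq : ∀ q ∈ Q, q ^ 2 ∈ D) {a e : T} (haQ : a ∉ Q)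
    (heQ : e ∈ Q) (hd : e⁻¹ * (a * e * a⁻¹) ∉ D) : ∃ d ∈ Q, d ∉ D ∧ d ^ 2 = 1 := by
  classical
  have hQn : Q.Normal := Subgroup.normal_of_index_eq_two hQi
  have hsqQ : ∀ g : T, g ^ 2 ∈ Q := by
    intro g
    rw [← hQi]
    exact Subgroup.pow_index_mem Q g
  have hmulQ : ∀ x y : T, x * y ∈ Q ↔ (x ∈ Q ↔ y ∈ Q) := fun x y =>
    Subgroup.mul_mem_iff_of_index_two hQi
  obtain ⟨N, hNn, hNc, hTN⟩ := hm
  obtain ⟨b, rfl⟩ := Cfsg.Agent.Lib.PGroup.CyclicMax.exists_zpowers_eq_of_isCyclic N hNc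
  have hcomm : ∀ x y : T, ⁅x, y⁆ ∈ Subgroup.zpowers b := by
    intro x y
    rw [← QuotientGroup.eq_one_iff, commutatorElement_def, QuotientGroup.mk_mul, QuotientGroup.mk_mul,
      QuotientGroup.mk_mul, QuotientGroup.mk_inv, QuotientGroup.mk_inv,
      (IsCyclic.isMulCommutative (α := T ⧸ Subgroup.zpowers b)).is_comm.comm (x : T ⧸ Subgroup.zpowers b)]
    group
  set d := e⁻¹ * (a * e * a⁻¹) with hdef
  have hdN : d ∈ Subgroup.zpowers b := by
    have := hcomm e⁻¹ a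
    rw [commutatorElement_def, inv_inv] at this
    have e1 : e⁻¹ * a * e * a⁻¹ = d := by rw [hdef]; group
    rwa [e1] at this
  have haeQ : a * e * a⁻¹ ∈ Q := hQn.conj_mem e heQ a
  have hdQ : d ∈ Q := Q.mul_mem (Q.inv_mem heQ) haeQ
  have ha2e : a ^ 2 * e = e * a ^ 2 := hQab _ (hsqQ a) _ heQ
  have hinvert : a * d * a⁻¹ = d⁻¹ := by
    have h1 : a * e * a⁻¹ = e * d := by rw [hdef]; group
    have h2 : (e * d) * (a * d * a⁻¹) = e := by
      calc (e * d) * (a * d * a⁻¹) = (a * e * a⁻¹) * (a * d * a⁻¹) := by rw [h1]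
        _ = a * (e * d) * a⁻¹ := by group
        _ = a * (a * e * a⁻¹) * a⁻¹ := by rw [h1]
        _ = (a ^ 2 * e) * (a ^ 2)⁻¹ := by rw [pow_two]; group
        _ = e := by rw [ha2e]; group
    have h3 : d * (a * d * a⁻¹) = 1 := by
      have : e * (d * (a * d * a⁻¹)) = e * 1 := by rw [← mul_assoc, h2, mul_one]
      exact mul_left_cancel this
    exact eq_inv_of_mul_eq_one_right h3
  by_cases hb : b ∈ Q
  · -- `⟨b⟩ ≤ Q`
    exfalso
    obtain ⟨gq, hgq⟩ := hTN.exists_generator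
    obtain ⟨g, rfl⟩ := QuotientGroup.mk_surjective gq
    have hrep : ∀ t : T, ∃ i j : ℤ, t = g ^ i * b ^ j := by
      intro t
      obtain ⟨i, hi⟩ := Subgroup.mem_zpowers_iff.1 (hgq (t : T ⧸ Subgroup.zpowers b))
      have h1 : ((g ^ i : T) : T ⧸ Subgroup.zpowers b) = t := by
        rw [QuotientGroup.mk_zpow]
        exact hi
      have h2 : (g ^ i)⁻¹ * t ∈ Subgroup.zpowers b := QuotientGroup.eq.1 h1
      obtain ⟨j, hj⟩ := h2
      refine ⟨i, j, ?_⟩
      have hj' : b ^ j = (g ^ i)⁻¹ * t := hj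
      rw [hj']
      group
    have hgQ : g ∉ Q := by
      intro hg
      obtain ⟨i, j, hij⟩ := hrep a
      apply haQ
      rw [hij]
      exact Q.mul_mem (Q.zpow_mem hg i) (Q.zpow_mem hb j)
    obtain ⟨k, hk⟩ := mem_powers_iff_mem_zpowers.2 hdN
    have hk' : b ^ k = d := hk
    have hkodd : Odd k := by
      rcases Nat.even_or_odd k with ⟨c, hc⟩ | h
      · exfalso
        apply hd
        rw [← hk', hc, ← two_mul, pow_mul]
        exact pow_mem (hDsq b hb) c
      · exact h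
    have hbd : b ∈ Subgroup.zpowers d := by
      have := mem_zpowers_of_odd hT b hkodd
      rwa [hk'] at this
    have hab : a * b * a⁻¹ = b⁻¹ := by
      obtain ⟨l, hl⟩ := hbd
      have hl' : d ^ l = b := hl
      rw [← hl', ← conj_zpow, hinvert, inv_zpow]
    have hq₁ : g⁻¹ * a ∈ Q := by
      rw [hmulQ]
      exact iff_of_false (fun h => hgQ (by simpa using Q.inv_mem h)) haQ
    have hg2 : a * g ^ 2 * a⁻¹ = g ^ 2 := by
      have hc : (g⁻¹ * a) * g ^ 2 = g ^ 2 * (g⁻¹ * a) := hQab _ hq₁ _ (hsqQ g)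
      calc a * g ^ 2 * a⁻¹ = g * ((g⁻¹ * a) * g ^ 2) * (g⁻¹ * a)⁻¹ * g⁻¹ := by group
        _ = g * (g ^ 2 * (g⁻¹ * a)) * (g⁻¹ * a)⁻¹ * g⁻¹ := by rw [hc]
        _ = g ^ 2 := by rw [pow_two]; group
    obtain ⟨i, j, hij⟩ := hrep e
    have hgi : g ^ i ∈ Q := by
      have e1 : g ^ i = e * (b ^ j)⁻¹ := by rw [hij]; group
      rw [e1]
      exact Q.mul_mem heQ (Q.inv_mem (Q.zpow_mem hb j))
    obtain ⟨l, hl⟩ : ∃ l : ℤ, g ^ i = (g ^ 2) ^ l := by
      rcases Int.even_or_odd' i with ⟨l, rfl | rfl⟩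
      · exact ⟨l, by rw [zpow_mul, zpow_two, pow_two]⟩
      · exfalso
        apply hgQ
        have e1 : g = (g ^ 2) ^ (-l) * g ^ (2 * l + 1) := by
          rw [← zpow_natCast, ← zpow_mul, ← zpow_add]
          simp
        rw [e1]
        exact Q.mul_mem (Q.zpow_mem (hsqQ g) _) hgi
    apply hd
    have e1 : a * e * a⁻¹ = (g ^ 2) ^ l * (b⁻¹) ^ j := by
      have e0 : a * ((g ^ 2) ^ l * b ^ j) * a⁻¹ = (a * (g ^ 2) ^ l * a⁻¹) * (a * b ^ j * a⁻¹) := by group
      rw [hij, hl, e0, ← conj_zpow, ← conj_zpow, hg2, hab]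
    have e2 : e⁻¹ * (a * e * a⁻¹) = (b ^ 2) ^ (-j) := by
      rw [e1, hij, hl]
      group
    have e3 : d = (b ^ 2) ^ (-j) := e2
    rw [e3]
    exact Subgroup.zpow_mem _ (hDsq b hb) _
  · -- `b ∉ Q`
    have hq₁ : b⁻¹ * a ∈ Q := by
      rw [hmulQ]
      exact iff_of_false (fun h => hb (by simpa using Q.inv_mem h)) haQ
    have hcq : (b⁻¹ * a) * d = d * (b⁻¹ * a) := hQab _ hq₁ _ hdQ
    have hcb : b * d = d * b := by
      obtain ⟨i, hi⟩ := hdN
      have hi' : b ^ i = d := hi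
      rw [← hi']
      exact ((Commute.refl b).zpow_right i).eq
    have h1 : a * d * a⁻¹ = d := by
      calc a * d * a⁻¹ = b * ((b⁻¹ * a) * d) * (b⁻¹ * a)⁻¹ * b⁻¹ := by group
        _ = b * (d * (b⁻¹ * a)) * (b⁻¹ * a)⁻¹ * b⁻¹ := by rw [hcq]
        _ = (b * d) * b⁻¹ := by group
        _ = d := by rw [hcb]; group
    refine ⟨d, hdQ, hd, ?_⟩
    rw [h1] at hinvert
    rw [pow_two]
    nth_rewrite 1 [hinvert]
    exact inv_mul_cancel d

/-- An abelian `2`-group with the fixed point free automorphism and an involution outside the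
Frattini subgroup has order four. -/
theorem card_eq_four_of_involution {Q : Type*} [Group Q] [Finite Q] (hQ : IsPGroup 2 Q)
    (hab : ∀ x y : Q, x * y = y * x) (hcard : Nat.card (Q ⧸ frattini Q) = 4) (σ : MulAut Q)
    (hfpf : ∀ v : Q ⧸ frattini Q, v ≠ 1 → fratAut Q σ v ≠ v) {d : Q} (hd : d ∉ frattini Q)
    (hd2 : d ^ 2 = 1) : Nat.card Q = 4 := by
  classical
  have hfact : Fact (Nat.Prime 2) := ⟨Nat.prime_two⟩
  have hVc := frat_comm hQ
  have hVe := frat_exp hQ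
  let instV : CommGroup (Q ⧸ frattini Q) :=
    { (inferInstance : Group (Q ⧸ frattini Q)) with mul_comm := hVc }
  let E : Subgroup Q :=
    { carrier := {x | x ^ 2 = 1}
      one_mem' := one_pow 2
      mul_mem' := by
        intro a b ha hb
        show (a * b) ^ 2 = 1
        rw [(show Commute a b from hab a b).mul_pow, ha, hb, one_mul]
      inv_mem' := by
        intro a ha
        show a⁻¹ ^ 2 = 1
        rw [inv_pow, ha, inv_one] }
  let v₁ : Q ⧸ frattini Q := (d : Q)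
  have hv₁ : v₁ ≠ 1 := fun h => hd ((QuotientGroup.eq_one_iff _).1 h)
  obtain ⟨hnz, -⟩ := fpf_props (V := Q ⧸ frattini Q) hVe hcard (fratAut Q σ) hfpf hv₁
  have hv₂ : fratAut Q σ v₁ = (σ d : Q) := rfl
  have hsd : (σ d) ^ 2 = 1 := by rw [← map_pow, hd2, map_one]
  have htop : E = ⊤ := by
    apply frattini_nongenerating
    rw [eq_top_iff]
    intro y _
    obtain ⟨i, j, hij⟩ := Cfsg.Agent.Lib.Fusion.Meta.Linear.exists_coords (p := 2) (V := Q ⧸ frattini Q)
      hVe (by rw [hcard]; norm_num) hv₁ hnz (y : Q ⧸ frattini Q)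
    rw [hv₂] at hij
    have hmem : (d ^ i * (σ d) ^ j)⁻¹ * y ∈ frattini Q := by
      rw [← QuotientGroup.eq_one_iff, QuotientGroup.mk_mul, QuotientGroup.mk_inv, hij,
        QuotientGroup.mk_mul, QuotientGroup.mk_pow, QuotientGroup.mk_pow]
      exact inv_mul_cancel _
    have e : y = (d ^ i * (σ d) ^ j) * ((d ^ i * (σ d) ^ j)⁻¹ * y) := by group
    rw [e]
    refine mul_mem ((le_sup_left : E ≤ E ⊔ frattini Q) ?_) ((le_sup_right : frattini Q ≤ _) hmem)
    exact mul_mem (pow_mem (show d ∈ E from hd2) i) (pow_mem (show σ d ∈ E from hsd) j)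
  have hΦ : frattini Q ≤ ⊥ := by
    refine Cfsg.Agent.Lib.PGroup.ActionFrattini.frattini_le hQ ⊥ ?_ ?_
    · rw [commutator_def, Subgroup.commutator_le]
      intro a _ b _
      rw [Subgroup.mem_bot, commutatorElement_eq_one_iff_mul_comm]
      exact hab a b
    · intro x
      have hx : x ∈ E := by rw [htop]; trivial
      exact hx
  have hQc := Subgroup.card_eq_card_quotient_mul_card_subgroup (frattini Q)
  rw [hcard, le_bot_iff.1 hΦ, Subgroup.card_bot, mul_one] at hQc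
  exact hQc

end abelianCase

end Cfsg.Agent.Lib.Fusion.Meta.Two
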