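import Mathlib
import Cfsg.Prelude.Def_FusionSystem
import Cfsg.Prelude.Def_OddOrderLocal
import Cfsg.Prelude.Def_CaseTheorems
import Cfsg.Agent.Lib.Fusion.AlperinInduct
import Cfsg.Agent.Lib.Fusion.Meta.Main
import Cfsg.Agent.Lib.Fusion.Meta.Two
import Cfsg.Agent.Lib.PGroup.MaximalClass
import Cfsg.Agent.S0115
import Cfsg.Agent.S4399

set_option autoImplicit false

/-!
# Strongly closed metacyclic subgroups, `p = 2`
-/

namespace Cfsg.Agent.Lib.Fusion.Meta.MainTwo

open Cfsg Cfsg.FusionSystem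
open Cfsg.Agent.Lib.Fusion.Basic Cfsg.Agent.Lib.Fusion.Saturated
open Cfsg.Agent.Lib.Fusion.NormalCR Cfsg.Agent.Lib.Fusion.Chain Cfsg.Agent.Lib.Fusion.AlperinInduct
open Cfsg.Agent.Lib.Fusion.Meta.Frat Cfsg.Agent.Lib.Fusion.Meta.Two
open Cfsg.Agent.Lib.Fusion.Meta.Main

variable {Ω : Type*} [Group Ω] {S : Subgroup Ω} [Finite S] {F : FusionSystem S}

/-- A variant of `le_of_normalizer_inf_le`: only `P` normalizes `Q`. -/
theorem le_of_normalizer_inf_le' {p : ℕ} [Fact p.Prime] (hS : IsPGroup p S)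
    {P Q : Subgroup Ω} (hPS : P ≤ S) (hQS : Q ≤ S) (hPn : P ≤ Subgroup.normalizer (Q : Set Ω))
    (h : ∀ q ∈ Q, q ∈ Subgroup.normalizer (P : Set Ω) → q ∈ P) : Q ≤ P := by
  by_contra hnot
  have hT : P ⊔ Q ≤ S := sup_le hPS hQS
  have hfin : Finite ↥(P ⊔ Q) := finite_of_le hT
  have hTp : IsPGroup p ↥(P ⊔ Q) := hS.to_le hT
  have hlt : P < P ⊔ Q := by
    refine lt_of_le_of_ne le_sup_left ?_
    intro e
    exact hnot (sup_eq_left.1 e.symm)
  obtain ⟨g, hg1, hg2⟩ := exists_mem_normalizerIn_of_lt (S := P ⊔ Q) hTp hlt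
  obtain ⟨x, hx, q, hq, rfl⟩ :=
    Cfsg.Agent.Lib.Fusion.GroupSylow.exists_mul_of_mem_sup hPn hg1.1
  apply hg2
  have hqN : q ∈ Subgroup.normalizer (P : Set Ω) := by
    have h1 : x⁻¹ * (x * q) ∈ Subgroup.normalizer (P : Set Ω) :=
      Subgroup.mul_mem _ (Subgroup.inv_mem _ (Subgroup.le_normalizer hx)) hg1.2
    simpa using h1
  exact P.mul_mem hx (h q hq hqN)

omit [Finite S] in
theorem conj_mem_centralizer {H : Subgroup Ω} {g h : Ω} (hg : g ∈ Subgroup.normalizer (H : Set Ω))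
    (hh : h ∈ Subgroup.centralizer (H : Set Ω)) : g * h * g⁻¹ ∈ Subgroup.centralizer (H : Set Ω) := by
  rw [Subgroup.mem_centralizer_iff] at hh ⊢
  intro x hx
  have h1 : g⁻¹ * x * g ∈ H := by
    have := (Subgroup.mem_normalizer_iff.1 hg) (g⁻¹ * x * g)
    apply this.2
    have e : g * (g⁻¹ * x * g) * g⁻¹ = x := by group
    rw [e]
    exact hx
  have h2 := hh _ h1
  calc x * (g * h * g⁻¹) = g * ((g⁻¹ * x * g) * h) * g⁻¹ := by group
    _ = g * (h * (g⁻¹ * x * g)) * g⁻¹ := by rw [h2]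
    _ = g * h * g⁻¹ * x := by group

/-- The main step. -/
theorem mem_of_centric_radical (hS : IsPGroup 2 S) {P R : Subgroup Ω}
    (hP : F.StronglyClosed P) (hm : Cfsg.IsMetacyclic P)
    (hd : ¬ ∃ m : ℕ, Nonempty (↥P ≃* DihedralGroup m))
    (hq : ¬ ∃ m : ℕ, Nonempty (↥P ≃* QuaternionGroup m)) (hsd : ¬ Cfsg.IsQuasiDihedral ↥P)
    (hC : F.IsCentric R) (hRad : F.IsRadical 2 R) {a : Ω} (haP : a ∈ P)
    (haN : a ∈ Subgroup.normalizer (R : Set Ω)) : a ∈ R := by
  classical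
  by_contra haR
  have hfact : Fact (Nat.Prime 2) := ⟨Nat.prime_two⟩
  have hRS : R ≤ S := hC.1
  have haS : a ∈ S := hP.1 haP
  have hfinR : Finite R := finite_of_le hRS
  have hRp : IsPGroup 2 R := isPGroup_of_le hS hRS
  let A := F.autGroup R
  let Q : Subgroup R := P.subgroupOf R
  have hinv : ∀ α ∈ A, ∀ x ∈ Q, α x ∈ Q := fun α hα x hx =>
    StronglyClosed.aut_mem hP hRS hα x hx
  have hmQ : Cfsg.IsMetacyclic Q := by
    let f : Q →* P :=
      { toFun := fun x => ⟨((x : R) : Ω), x.2⟩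
        map_one' := rfl
        map_mul' := fun _ _ => rfl }
    refine isMetacyclic_of_injective f ?_ hm
    intro x y hxy
    exact Subtype.ext (Subtype.ext (congrArg (fun w : P => (w : Ω)) hxy))
  have hα₀mem : normConj a haN ∈ autInducedBy S R := normConj_mem_autInducedBy haS haN
  let α₀ : A := ⟨normConj a haN, autInducedBy_le_autGroup hRS hα₀mem⟩
  obtain ⟨k, hk⟩ : ∃ k, α₀ ^ (2 ^ k) = 1 := by
    obtain ⟨k, hk⟩ := isPGroup_autInducedBy hS R ⟨normConj a haN, hα₀mem⟩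
    refine ⟨k, Subtype.ext ?_⟩
    have h2 : (normConj a haN) ^ (2 ^ k) = 1 := by
      simpa using congrArg (fun w : autInducedBy S R => (w : MulAut R)) hk
    exact h2
  have hPnorm : ∀ s ∈ S, ∀ y ∈ P, s * y * s⁻¹ ∈ P := fun s hs y hy =>
    StronglyClosed.conj_mem hP hs hy
  have hh0 : ∀ c ∈ P, ∀ hc : c ∈ Subgroup.normalizer (R : Set Ω), ∀ x : R, x⁻¹ * (normConj c hc) x ∈ Q := by
    intro c hcP hc x
    show ((x : Ω))⁻¹ * (c * x * c⁻¹) ∈ P
    have h1 : (x : Ω)⁻¹ * c * ((x : Ω)⁻¹)⁻¹ ∈ P := hPnorm _ (S.inv_mem (hRS x.2)) c hcP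
    have e : (x : Ω)⁻¹ * (c * x * c⁻¹) = ((x : Ω)⁻¹ * c * ((x : Ω)⁻¹)⁻¹) * c⁻¹ := by group
    rw [e]
    exact P.mul_mem h1 (P.inv_mem hcP)
  have h0 : ∀ x : R, x⁻¹ * α₀.1 x ∈ Q := hh0 a haP haN
  have hnot : α₀ ∉ pCore 2 A := fun h => haR (mem_of_conj_mem_pCore hC hRad haS h (fun _ => rfl))
  obtain ⟨hcV, hα₀2, z, hz⟩ := exists_fpf hRp A Q hinv hmQ hk h0 hnot
  have hQ2 : IsPGroup 2 Q := hRp.to_subgroup Q
  have hfinQ : Finite Q := inferInstance
  let σ : MulAut Q := resAut A Q hinv z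
  have hCase := abelian_or_card_eight hQ2 hcV σ hz hmQ
  have hapR : a ^ 2 ∈ R :=
    mem_of_conj_mem_pCore hC hRad (S.pow_mem haS 2) hα₀2 (fun x => normConj_pow haN 2 x)
  have hapP : a ^ 2 ∈ P := P.pow_mem haP 2
  obtain ⟨e₀, he₀⟩ : ∃ e₀ : Q, e₀⁻¹ * resAut A Q hinv α₀ e₀ ∉ frattini Q := by
    by_contra hcon
    push Not at hcon
    exact hnot (mem_pCore_of_trivial hRp A Q hinv h0 hcon)
  -- the subgroups of `Ω`
  let QΩ : Subgroup Ω := Q.map R.subtype
  have hQΩ : QΩ = P ⊓ R := Subgroup.subgroupOf_map_subtype P R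
  have hQΩR : QΩ ≤ R := Subgroup.map_subtype_le _
  have hQΩP : QΩ ≤ P := hQΩ ▸ inf_le_left
  have hQcard : Nat.card QΩ = Nat.card Q := Subgroup.card_map_of_injective R.subtype_injective
  have haQΩ : a ∉ QΩ := fun h => haR (hQΩR h)
  have haNP : a ∈ Subgroup.normalizer (P : Set Ω) := StronglyClosed.le_normalizer hP haS
  have hnormQ : ∀ g ∈ S, g ∈ Subgroup.normalizer (R : Set Ω) → g ∈ Subgroup.normalizer (QΩ : Set Ω) := by
    intro g hgS hgN
    rw [Subgroup.mem_normalizer_iff]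
    intro h
    show h ∈ QΩ ↔ g * h * g⁻¹ ∈ QΩ
    rw [hQΩ, Subgroup.mem_inf, Subgroup.mem_inf]
    exact and_congr ((Subgroup.mem_normalizer_iff.1 (StronglyClosed.le_normalizer hP hgS)) h)
      ((Subgroup.mem_normalizer_iff.1 hgN) h)
  have haNQ : a ∈ Subgroup.normalizer (QΩ : Set Ω) := hnormQ a haS haN
  have hzN : Subgroup.zpowers a ≤ Subgroup.normalizer (QΩ : Set Ω) := Subgroup.zpowers_le.2 haNQ
  -- `Q` has order `4` or is nonabelian of order `8`
  have hcard48 : ((∀ x y : Q, x * y = y * x) ∧ Nat.card Q = 4) ∨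
      ((¬ ∀ x y : Q, x * y = y * x) ∧ Nat.card Q = 8) := by
    by_cases hab : ∀ x y : Q, x * y = y * x
    · refine Or.inl ⟨hab, ?_⟩
      let T : Subgroup Ω := Subgroup.zpowers a ⊔ QΩ
      have hQT : QΩ ≤ T := le_sup_right
      have haT : a ∈ T := (le_sup_left : Subgroup.zpowers a ≤ T) (Subgroup.mem_zpowers a)
      have hTP : T ≤ P := sup_le (Subgroup.zpowers_le.2 haP) hQΩP
      have hTelt : ∀ t ∈ T, ∃ k : ℤ, ∃ y ∈ QΩ, t = a ^ k * y := by
        intro t ht
        obtain ⟨x, hx, y, hy, rfl⟩ := Cfsg.Agent.Lib.Fusion.GroupSylow.exists_mul_of_mem_sup hzN ht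
        obtain ⟨k, rfl⟩ := Subgroup.mem_zpowers_iff.1 hx
        exact ⟨k, y, hy, rfl⟩
      have hQTn : T ≤ Subgroup.normalizer (QΩ : Set Ω) := sup_le hzN Subgroup.le_normalizer
      let QT : Subgroup T := QΩ.subgroupOf T
      have hQTnormal : QT.Normal := (Subgroup.normal_subgroupOf_iff_le_normalizer hQT).2 hQTn
      have hfinT : Finite T := finite_of_le (hTP.trans hP.1)
      have hT2 : IsPGroup 2 T := hS.to_le (hTP.trans hP.1)
      have hmT : Cfsg.IsMetacyclic T :=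
        isMetacyclic_of_injective (Subgroup.inclusion hTP) (Subgroup.inclusion_injective hTP) hm
      let a' : T := ⟨a, haT⟩
      have hQi : QT.index = 2 := by
        let ā : T ⧸ QT := (a' : T)
        have hā1 : ā ≠ 1 := by
          intro h
          have h2 : a' ∈ QT := (QuotientGroup.eq_one_iff a').1 h
          exact haQΩ h2
        have hāp : ā ^ 2 = 1 := by
          show ((a' : T) : T ⧸ QT) ^ 2 = 1
          rw [← QuotientGroup.mk_pow]
          refine (QuotientGroup.eq_one_iff _).2 ?_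
          show a ^ 2 ∈ QΩ
          rw [hQΩ]
          exact ⟨hapP, hapR⟩
        have ho : orderOf ā = 2 := orderOf_eq_prime hāp hā1
        have hgen : ∀ w : T ⧸ QT, w ∈ Subgroup.zpowers ā := by
          intro w
          obtain ⟨⟨t, ht⟩, rfl⟩ := QuotientGroup.mk_surjective w
          obtain ⟨k, y, hy, rfl⟩ := hTelt t ht
          refine ⟨k, ?_⟩
          have e : (⟨a ^ k * y, ht⟩ : T) = a' ^ k * ⟨y, hQT hy⟩ := Subtype.ext (by simp [a'])
          have hy1 : ((⟨y, hQT hy⟩ : T) : T ⧸ QT) = 1 := (QuotientGroup.eq_one_iff _).2 hy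
          show ā ^ k = _
          rw [e, QuotientGroup.mk_mul, hy1, mul_one, QuotientGroup.mk_zpow]
        have h1 := orderOf_eq_card_of_forall_mem_zpowers hgen
        rw [Subgroup.index, ← h1, ho]
      -- the Frattini subgroup, in `Ω`
      let DΩ : Subgroup Ω := ((frattini Q).map Q.subtype).map R.subtype
      let DT : Subgroup T := DΩ.subgroupOf T
      have hmemD : ∀ x : Q, (((x : R) : Ω) ∈ DΩ) ↔ x ∈ frattini Q := by
        intro x
        constructor
        · rintro ⟨_, ⟨y, hy, rfl⟩, hyx⟩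
          have : y = x := Subtype.ext (Subtype.ext hyx)
          rwa [← this]
        · intro hx
          exact ⟨_, ⟨x, hx, rfl⟩, rfl⟩
      have hQab : ∀ x ∈ QT, ∀ y ∈ QT, x * y = y * x := by
        rintro ⟨x, hxT⟩ ⟨x₀, hx₀, hx₀e⟩ ⟨y, hyT⟩ ⟨y₀, hy₀, hy₀e⟩
        apply Subtype.ext
        have h3 := hab ⟨x₀, hx₀⟩ ⟨y₀, hy₀⟩
        have h4 := congrArg (fun w : Q => ((w : R) : Ω)) h3
        simp only [Subgroup.coe_subtype] at hx₀e hy₀e
        show x * y = y * x
        rw [← hx₀e, ← hy₀e]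
        exact h4
      have hDsq : ∀ q ∈ QT, q ^ 2 ∈ DT := by
        rintro ⟨q, hqT⟩ ⟨x₀, hx₀, hx₀e⟩
        simp only [Subgroup.coe_subtype] at hx₀e
        have h3 : (⟨x₀, hx₀⟩ : Q) ^ 2 ∈ frattini Q :=
          Cfsg.Agent.Lib.PGroup.FrattiniBasis.pow_mem_frattini hQ2 _
        have h4 := (hmemD _).2 h3
        show q ^ 2 ∈ DΩ
        rw [← hx₀e]
        exact h4
      have he₀T : (((e₀ : R) : Ω)) ∈ T := hQT ⟨e₀, e₀.2, rfl⟩
      let e' : T := ⟨_, he₀T⟩
      have hd' : e'⁻¹ * (a' * e' * a'⁻¹) ∉ DT := by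
        intro h
        have h3 : (((e₀⁻¹ * resAut A Q hinv α₀ e₀ : Q) : R) : Ω) ∈ DΩ := h
        exact he₀ ((hmemD _).1 h3)
      obtain ⟨d, hdQ, hdD, hd2⟩ := exists_involution hT2 hmT QT DT hQi hQab hDsq (a := a') (e := e')
        haQΩ ⟨e₀, e₀.2, rfl⟩ hd'
      obtain ⟨d₀, hd₀, hd₀e⟩ := hdQ
      simp only [Subgroup.coe_subtype] at hd₀e
      have hd₀1 : (⟨d₀, hd₀⟩ : Q) ∉ frattini Q := by
        intro h
        apply hdD
        have h4 := (hmemD _).2 h
        show (d : Ω) ∈ DΩ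
        rw [← hd₀e]
        exact h4
      have hd₀2 : (⟨d₀, hd₀⟩ : Q) ^ 2 = 1 := by
        apply Subtype.ext
        apply Subtype.ext
        have h5 := congrArg (fun w : T => (w : Ω)) hd2
        simp only [Subgroup.coe_pow, OneMemClass.coe_one] at h5 ⊢
        rw [← hd₀e] at h5
        exact h5
      exact card_eq_four_of_involution hQ2 hab hcV σ hz hd₀1 hd₀2
    · rcases hCase with h | h
      · exact absurd h hab
      · exact Or.inr ⟨hab, h⟩
  -- self-centralizing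
  let C : Subgroup Ω := P ⊓ Subgroup.centralizer (QΩ : Set Ω)
  have hCle : C ≤ R := by
    refine le_of_normalizer_inf_le' (p := 2) hS hRS (inf_le_left.trans hP.1) ?_ ?_
    · intro r hr
      have hrN : r ∈ Subgroup.normalizer (QΩ : Set Ω) :=
        hnormQ r (hRS hr) (Subgroup.le_normalizer hr)
      rw [Subgroup.mem_normalizer_iff]
      intro h
      show h ∈ C ↔ r * h * r⁻¹ ∈ C
      constructor
      · rintro ⟨h1, h2⟩
        exact ⟨(Subgroup.mem_normalizer_iff.1 (StronglyClosed.le_normalizer hP (hRS hr)) h).1 h1,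
          conj_mem_centralizer hrN h2⟩
      · rintro ⟨h1, h2⟩
        refine ⟨(Subgroup.mem_normalizer_iff.1 (StronglyClosed.le_normalizer hP (hRS hr)) h).2 h1, ?_⟩
        have h3 := conj_mem_centralizer (Subgroup.inv_mem _ hrN) h2
        have e : r⁻¹ * (r * h * r⁻¹) * r⁻¹⁻¹ = h := by group
        rwa [e] at h3
    · rintro c ⟨hcP, hcC⟩ hcN
      have hcS : c ∈ S := hP.1 hcP
      have hcmem : normConj c hcN ∈ autInducedBy S R := normConj_mem_autInducedBy hcS hcN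
      let γ : A := ⟨normConj c hcN, autInducedBy_le_autGroup hRS hcmem⟩
      have hγ : γ ∈ pCore 2 A := by
        refine mem_pCore_of_trivial hRp A Q hinv (hh0 c hcP hcN) ?_
        intro x
        have h1 : resAut A Q hinv γ x = x := by
          apply Subtype.ext
          apply Subtype.ext
          show c * ((x : R) : Ω) * c⁻¹ = ((x : R) : Ω)
          have h2 := (Subgroup.mem_centralizer_iff.1 hcC) _ (⟨x, x.2, rfl⟩ : ((x : R) : Ω) ∈ QΩ)
          rw [← h2]
          group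
        rw [h1]
        simp [one_mem]
      exact mem_of_conj_mem_pCore hC hRad hcS hγ (fun _ => rfl)
  -- work in `P`
  let B : Subgroup P := QΩ.subgroupOf P
  have hBcard : Nat.card B = Nat.card Q := by
    rw [← hQcard]
    exact Nat.card_congr (Subgroup.subgroupOfEquivOfLe hQΩP).toEquiv
  have hBc : Subgroup.centralizer (B : Set P) ≤ B := by
    intro c hc
    have hcC : (c : Ω) ∈ C := by
      refine ⟨c.2, ?_⟩
      show (c : Ω) ∈ Subgroup.centralizer (QΩ : Set Ω)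
      rw [Subgroup.mem_centralizer_iff]
      intro x hx
      have h2 := (Subgroup.mem_centralizer_iff.1 hc) ⟨x, hQΩP hx⟩ hx
      exact congrArg Subtype.val h2
    show (c : Ω) ∈ QΩ
    rw [hQΩ]
    exact ⟨c.2, hCle hcC⟩
  have hPp : IsPGroup 2 P := hS.to_le hP.1
  have hfinP : Finite P := finite_of_le hP.1
  obtain ⟨n, hn⟩ := IsPGroup.iff_card.1 hPp
  have hle8 : 8 ≤ Nat.card P := by
    have h1 := B.card_mul_index
    have h2 : B.index ≠ 1 := by
      intro h
      rw [Subgroup.index_eq_one] at h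
      have : (⟨a, haP⟩ : P) ∈ B := by rw [h]; trivial
      exact haQΩ this
    have h3 : B.index ≠ 0 := Subgroup.index_ne_zero_of_finite
    have h4 : 4 ≤ Nat.card B := by
      rw [hBcard]
      rcases hcard48 with h | h <;> omega
    rw [← h1]
    have h5 : 2 ≤ B.index := by omega
    nlinarith
  have hn3 : 3 ≤ n := by
    by_contra hlt
    have h3 : n ≤ 2 := by omega
    have : 2 ^ n ≤ 2 ^ 2 := Nat.pow_le_pow_right (by norm_num) h3
    rw [hn] at hle8
    omega
  have hclass : Group.nilpotencyClass P = n - 1 := by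
    rcases hcard48 with ⟨-, h⟩ | ⟨hna, h⟩
    · exact Cfsg.Agent.Lib.PGroup.MaximalClass.class_of_selfCentralizing_sq (p := 2) n P hn B
        (by rw [hBcard, h]; norm_num) hBc
    · refine Cfsg.Agent.Lib.PGroup.MaximalClass.class_of_selfCentralizing_cube (p := 2) hn B
        (by rw [hBcard, h]; norm_num) ?_ hBc
      intro hcomm
      apply hna
      intro x y
      have hx : (⟨((x : R) : Ω), x.2⟩ : P) ∈ B := ⟨x, x.2, rfl⟩
      have hy : (⟨((y : R) : Ω), y.2⟩ : P) ∈ B := ⟨y, y.2, rfl⟩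
      have h1 := hcomm.is_comm.comm ⟨_, hx⟩ ⟨_, hy⟩
      have h2 := congrArg (fun w : B => (((w : P) : Ω))) h1
      apply Subtype.ext
      apply Subtype.ext
      exact h2
  have hK := (Cfsg.Agent.S0115.result n hn3 hn).1 hclass
  have hab4 : Nat.card (Abelianization P) = 4 := hK.card_four
  have hexp : ∀ x : Abelianization P, x ^ 2 = 1 := by
    intro x
    have h1 : Monoid.exponent (P ⧸ commutator P) = 2 := hK.exponent_two
    have h2 := Monoid.pow_exponent_eq_one (G := P ⧸ commutator P) x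
    rwa [h1] at h2
  rcases Cfsg.Agent.S4399.result hPp hab4 hexp with h | ⟨k, ⟨e⟩⟩ | ⟨k, h1, x, y, h2, h3, h4⟩ | ⟨k, ⟨e⟩⟩
  · omega
  · exact hd ⟨_, ⟨e⟩⟩
  · refine hsd ⟨k + 3, by omega, ?_, x, y, h2, h3, ?_⟩
    · rw [h1]
    · rw [h4]
      rfl
  · exact hq ⟨_, ⟨e⟩⟩

/-- A strongly closed metacyclic subgroup, not of maximal class, is normal, `p = 2`. -/
theorem isNormal (hS : IsPGroup 2 S) (hF : F.IsSaturated 2) {P : Subgroup Ω}
    (hP : F.StronglyClosed P) (hm : Cfsg.IsMetacyclic P)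
    (hd : ¬ ∃ m : ℕ, Nonempty (↥P ≃* DihedralGroup m))
    (hq : ¬ ∃ m : ℕ, Nonempty (↥P ≃* QuaternionGroup m)) (hsd : ¬ Cfsg.IsQuasiDihedral ↥P) :
    F.IsNormal P :=
  isNormal_of_stronglyClosed_of_le hS hF hP fun _ hC hRad =>
    le_of_normalizer_inf_le hS hC.1 hP.1 (StronglyClosed.le_normalizer hP) fun _ ha haN =>
      mem_of_centric_radical hS hP hm hd hq hsd hC hRad ha haN

end Cfsg.Agent.Lib.Fusion.Meta.MainTwo
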