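import Mathlib
import Cfsg.Prelude.Def_FusionSystem
import Cfsg.Prelude.Def_OddOrderLocal
import Cfsg.Prelude.Def_CaseTheorems
import Cfsg.Agent.Lib.Coprime.Stability
import Cfsg.Agent.Lib.Fusion.Hyperfocal
import Cfsg.Agent.Lib.Fusion.Saturated2
import Cfsg.Agent.Lib.Fusion.Meta.MainTwo
import Cfsg.Agent.Lib.PGroup.Taussky
import Cfsg.Agent.S4399

set_option autoImplicit false

/-!
# Metacyclic `2`-groups supporting only the inner fusion system
-/

namespace Cfsg.Agent.Lib.Fusion.Meta.Inner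

open Cfsg Cfsg.FusionSystem
open Cfsg.Agent.Lib.Fusion.Basic Cfsg.Agent.Lib.Fusion.Saturated
open Cfsg.Agent.Lib.Fusion.Meta.Frat Cfsg.Agent.Lib.Fusion.Meta.Two
open Cfsg.Agent.Lib.Fusion.Meta.LinearTwo Cfsg.Agent.Lib.Fusion.Meta.Linear
open scoped commutatorElement

section homocyclic

variable {Q : Type*} [Group Q] [Finite Q]

/-- An abelian `2`-group with a fixed point free automorphism on the four-group `Q/Φ(Q)` is homocyclic
of rank two. -/
theorem exists_homocyclic (hQ : IsPGroup 2 Q) (hab : ∀ x y : Q, x * y = y * x)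
    (hcard : Nat.card (Q ⧸ frattini Q) = 4) (σ : MulAut Q)
    (hfpf : ∀ v : Q ⧸ frattini Q, v ≠ 1 → fratAut Q σ v ≠ v) :
    ∃ n : ℕ, Nonempty (Q ≃* Multiplicative (Fin 2 → ZMod (2 ^ n))) := by
  classical
  have hfact : Fact (Nat.Prime 2) := ⟨Nat.prime_two⟩
  have hVc := frat_comm hQ
  have hVe := frat_exp hQ
  let instV : CommGroup (Q ⧸ frattini Q) :=
    { (inferInstance : Group (Q ⧸ frattini Q)) with mul_comm := hVc }
  have hΦne : frattini Q ≠ ⊤ := by
    intro h
    rw [h] at hcard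
    have : Nat.card (Q ⧸ (⊤ : Subgroup Q)) = 1 := by
      rw [← Subgroup.index, Subgroup.index_top]
    omega
  obtain ⟨x, hx⟩ : ∃ x : Q, x ∉ frattini Q := by
    by_contra hall
    push Not at hall
    exact hΦne (eq_top_iff.2 fun y _ => hall y)
  -- generation by `y` and `σ y`
  have hgen : ∀ y : Q, y ∉ frattini Q → Subgroup.zpowers y ⊔ Subgroup.zpowers (σ y) = ⊤ := by
    intro y hy
    have hv : (y : Q ⧸ frattini Q) ≠ 1 := fun h => hy ((QuotientGroup.eq_one_iff _).1 h)
    obtain ⟨hnz, -⟩ := fpf_props (V := Q ⧸ frattini Q) hVe hcard (fratAut Q σ) hfpf hv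
    apply frattini_nongenerating
    rw [eq_top_iff]
    intro t _
    obtain ⟨i, j, hij⟩ := exists_coords (p := 2) (V := Q ⧸ frattini Q)
      hVe (by rw [hcard]; norm_num) hv hnz (t : Q ⧸ frattini Q)
    have hij' : (t : Q ⧸ frattini Q) = (y : Q ⧸ frattini Q) ^ i * ((σ y : Q) : Q ⧸ frattini Q) ^ j := hij
    have hmem : (y ^ i * (σ y) ^ j)⁻¹ * t ∈ frattini Q := by
      rw [← QuotientGroup.eq_one_iff, QuotientGroup.mk_mul, QuotientGroup.mk_inv, hij',
        QuotientGroup.mk_mul, QuotientGroup.mk_pow, QuotientGroup.mk_pow]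
      exact inv_mul_cancel _
    have e : t = (y ^ i * (σ y) ^ j) * ((y ^ i * (σ y) ^ j)⁻¹ * t) := by group
    rw [e]
    refine mul_mem ((le_sup_left : _ ≤ (Subgroup.zpowers y ⊔ Subgroup.zpowers (σ y)) ⊔ frattini Q) ?_)
      ((le_sup_right : frattini Q ≤ _) hmem)
    exact mul_mem ((le_sup_left : _ ≤ Subgroup.zpowers y ⊔ Subgroup.zpowers (σ y))
        (pow_mem (Subgroup.mem_zpowers y) i))
      ((le_sup_right : _ ≤ Subgroup.zpowers y ⊔ Subgroup.zpowers (σ y))
        (pow_mem (Subgroup.mem_zpowers (σ y)) j))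
  -- the exponent
  have hkill : ∀ (y : Q) (N : ℕ), y ∉ frattini Q → y ^ N = 1 → ∀ t : Q, t ^ N = 1 := by
    intro y N hy hyN t
    let E : Subgroup Q :=
      { carrier := {z | z ^ N = 1}
        one_mem' := one_pow N
        mul_mem' := by
          intro a b ha hb
          show (a * b) ^ N = 1
          rw [(show Commute a b from hab a b).mul_pow, ha, hb, one_mul]
        inv_mem' := by
          intro a ha
          show a⁻¹ ^ N = 1
          rw [inv_pow, ha, inv_one] }
    have h1 : y ∈ E := hyN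
    have h2 : σ y ∈ E := by
      show (σ y) ^ N = 1
      rw [← map_pow, hyN, map_one]
    have hle := sup_le (Subgroup.zpowers_le.2 h1) (Subgroup.zpowers_le.2 h2)
    rw [hgen y hy] at hle
    exact hle (Subgroup.mem_top t)
  obtain ⟨ℓ, hℓ⟩ := (IsPGroup.iff_orderOf.1 hQ) x
  have hordall : ∀ y : Q, y ∉ frattini Q → orderOf y = 2 ^ ℓ := by
    intro y hy
    apply Nat.dvd_antisymm
    · rw [orderOf_dvd_iff_pow_eq_one]
      refine hkill x _ hx ?_ y
      rw [← hℓ]
      exact pow_orderOf_eq_one x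
    · rw [← hℓ, orderOf_dvd_iff_pow_eq_one]
      exact hkill y _ hy (pow_orderOf_eq_one y) x
  have hℓ0 : ℓ ≠ 0 := by
    rintro rfl
    apply hx
    have : x = 1 := orderOf_eq_one_iff.1 (by rw [hℓ, pow_zero])
    rw [this]
    exact one_mem _
  obtain ⟨r, rfl⟩ : ∃ r, ℓ = r + 1 := ⟨ℓ - 1, by omega⟩
  have hnokill : ∀ y : Q, y ∉ frattini Q → y ^ (2 ^ r) ≠ 1 := by
    intro y hy h
    have h1 := orderOf_dvd_of_pow_eq_one h
    rw [hordall y hy] at h1
    have h2 := Nat.pow_dvd_pow_iff_le_right (by norm_num : 1 < 2) |>.1 h1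
    omega
  let m₁ : Q := x
  let m₂ : Q := σ x
  have hm₂ : m₂ ∉ frattini Q := by
    intro h
    exact hx ((Cfsg.Agent.Lib.PGroup.ActionFrattini.char_mem (frattini Q) σ).1 h)
  have ho₁ : orderOf m₁ = 2 ^ (r + 1) := hℓ
  have ho₂ : orderOf m₂ = 2 ^ (r + 1) := hordall _ hm₂
  have hsub : m₁ * m₂⁻¹ ∉ frattini Q := by
    intro h
    have h1 : ((m₁ : Q) : Q ⧸ frattini Q) = ((m₂ : Q) : Q ⧸ frattini Q) := by
      rw [← mul_inv_eq_one, ← QuotientGroup.mk_inv, ← QuotientGroup.mk_mul]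
      exact (QuotientGroup.eq_one_iff _).2 h
    have hv : (x : Q ⧸ frattini Q) ≠ 1 := fun h => hx ((QuotientGroup.eq_one_iff _).1 h)
    exact hfpf _ hv h1.symm
  -- the involutions agree unless the cyclic groups are disjoint
  have hinvol : ∀ (m : Q) (I : ℕ), orderOf m = 2 ^ (r + 1) → (m ^ I) ^ 2 = 1 → m ^ I ≠ 1 →
      m ^ I = m ^ (2 ^ r) := by
    intro m I hm h1 h2
    have h3 : 2 ^ (r + 1) ∣ I * 2 := by
      rw [← hm]
      apply orderOf_dvd_of_pow_eq_one
      rw [pow_mul]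
      exact h1
    have h4 : 2 ^ r ∣ I := by
      rw [pow_succ] at h3
      exact Nat.dvd_of_mul_dvd_mul_right (by norm_num) h3
    obtain ⟨c, rfl⟩ := h4
    have hm2 : (m ^ (2 ^ r)) ^ 2 = 1 := by
      rw [← pow_mul, ← pow_succ, ← hm]
      exact pow_orderOf_eq_one m
    rcases Nat.even_or_odd' c with ⟨d, rfl | rfl⟩
    · exfalso
      apply h2
      rw [pow_mul, pow_mul, hm2, one_pow]
    · rw [pow_mul, pow_add, pow_mul, hm2, one_pow, one_mul, pow_one]
  have hdisj : ∀ (i j : ℕ), m₁ ^ i = m₂ ^ j → m₁ ^ i = 1 := by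
    intro i j hij
    by_contra hne
    -- a power of `z = m₁ ^ i` has order two
    set z := m₁ ^ i with hz
    obtain ⟨t, ht⟩ := (IsPGroup.iff_orderOf.1 hQ) z
    have ht0 : t ≠ 0 := by
      rintro rfl
      exact hne (orderOf_eq_one_iff.1 (by rw [ht, pow_zero]))
    obtain ⟨t', rfl⟩ : ∃ t', t = t' + 1 := ⟨t - 1, by omega⟩
    have hz1 : z ^ (2 ^ t') ≠ 1 := by
      intro h
      have h1 := orderOf_dvd_of_pow_eq_one h
      rw [ht] at h1
      have h2 := Nat.pow_dvd_pow_iff_le_right (by norm_num : 1 < 2) |>.1 h1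
      omega
    have hz2 : (z ^ (2 ^ t')) ^ 2 = 1 := by
      rw [← pow_mul, ← pow_succ, ← ht]
      exact pow_orderOf_eq_one z
    have e1 : z ^ (2 ^ t') = m₁ ^ (i * 2 ^ t') := by rw [hz, pow_mul]
    have e2 : z ^ (2 ^ t') = m₂ ^ (j * 2 ^ t') := by rw [pow_mul, ← hij]
    have h1 := hinvol m₁ (i * 2 ^ t') ho₁ (e1 ▸ hz2) (e1 ▸ hz1)
    have h2 := hinvol m₂ (j * 2 ^ t') ho₂ (e2 ▸ hz2) (e2 ▸ hz1)
    have h3 : m₁ ^ (2 ^ r) = m₂ ^ (2 ^ r) := by
      rw [← h1, ← h2, ← e1, ← e2]
    apply hnokill _ hsub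
    rw [(show Commute m₁ m₂⁻¹ from hab _ _).mul_pow, h3, inv_pow]
    exact mul_inv_cancel _
  -- the isomorphism
  have hne : NeZero (2 ^ (r + 1)) := ⟨by positivity⟩
  have hm₁p : m₁ ^ (2 ^ (r + 1)) = 1 := by rw [← ho₁]; exact pow_orderOf_eq_one m₁
  have hm₂p : m₂ ^ (2 ^ (r + 1)) = 1 := by rw [← ho₂]; exact pow_orderOf_eq_one m₂
  let g : Multiplicative (Fin 2 → ZMod (2 ^ (r + 1))) →* Q :=
    { toFun := fun v => m₁ ^ ((Multiplicative.toAdd v) 0).val * m₂ ^ ((Multiplicative.toAdd v) 1).val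
      map_one' := by simp
      map_mul' := by
        intro a b
        have h1 := Cfsg.Agent.Lib.PGroup.CyclicMax.pow_val_add hm₁p (Multiplicative.toAdd a 0) (Multiplicative.toAdd b 0)
        have h2 := Cfsg.Agent.Lib.PGroup.CyclicMax.pow_val_add hm₂p (Multiplicative.toAdd a 1) (Multiplicative.toAdd b 1)
        simp only [toAdd_mul, Pi.add_apply]
        rw [h1, h2]
        calc m₁ ^ (Multiplicative.toAdd a 0).val * m₁ ^ (Multiplicative.toAdd b 0).val *
              (m₂ ^ (Multiplicative.toAdd a 1).val * m₂ ^ (Multiplicative.toAdd b 1).val)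
            = m₁ ^ (Multiplicative.toAdd a 0).val * (m₁ ^ (Multiplicative.toAdd b 0).val *
              m₂ ^ (Multiplicative.toAdd a 1).val) * m₂ ^ (Multiplicative.toAdd b 1).val := by group
          _ = m₁ ^ (Multiplicative.toAdd a 0).val * (m₂ ^ (Multiplicative.toAdd a 1).val *
              m₁ ^ (Multiplicative.toAdd b 0).val) * m₂ ^ (Multiplicative.toAdd b 1).val := by
            rw [hab (m₁ ^ _) (m₂ ^ _)]
          _ = _ := by group }
  have hval0 : ∀ (m : Q) (a : ZMod (2 ^ (r + 1))), orderOf m = 2 ^ (r + 1) → m ^ a.val = 1 → a = 0 := by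
    intro m a hm h
    have h1 := orderOf_dvd_of_pow_eq_one h
    rw [hm] at h1
    have h2 : a.val = 0 := Nat.eq_zero_of_dvd_of_lt h1 (ZMod.val_lt a)
    exact (ZMod.val_eq_zero a).1 h2
  have hinj : Function.Injective g := by
    rw [injective_iff_map_eq_one]
    intro v hv
    have hv' : m₁ ^ ((Multiplicative.toAdd v) 0).val * m₂ ^ ((Multiplicative.toAdd v) 1).val = 1 := hv
    have h1 : m₁ ^ ((Multiplicative.toAdd v) 0).val = (m₂ ^ ((Multiplicative.toAdd v) 1).val)⁻¹ :=
      eq_inv_of_mul_eq_one_left hv'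
    have h2 : m₁ ^ ((Multiplicative.toAdd v) 0).val = 1 := by
      refine hdisj _ ((2 ^ (r + 1) - 1) * ((Multiplicative.toAdd v) 1).val) ?_
      have hinv2 : m₂⁻¹ = m₂ ^ (2 ^ (r + 1) - 1) := by
        apply inv_eq_of_mul_eq_one_left
        rw [← pow_succ, Nat.sub_add_cancel (Nat.one_le_two_pow), hm₂p]
      rw [h1, ← inv_pow, hinv2, pow_mul]
    have h3 : m₂ ^ ((Multiplicative.toAdd v) 1).val = 1 := by
      rwa [h2, one_mul] at hv'
    have h4 := hval0 _ _ ho₁ h2
    have h5 := hval0 _ _ ho₂ h3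
    apply Multiplicative.toAdd.injective
    funext i
    fin_cases i
    · exact h4
    · exact h5
  have hone : (1 : ZMod (2 ^ (r + 1))).val = 1 := by
    refine ZMod.val_one'' ?_
    have : 2 ^ 1 ≤ 2 ^ (r + 1) := Nat.pow_le_pow_right (by norm_num) (by omega)
    omega
  have hsurj : Function.Surjective g := by
    rw [← MonoidHom.range_eq_top]
    have hle : Subgroup.zpowers x ⊔ Subgroup.zpowers (σ x) ≤ g.range := by
      refine sup_le (Subgroup.zpowers_le.2 ?_) (Subgroup.zpowers_le.2 ?_)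
      · refine ⟨Multiplicative.ofAdd ![1, 0], ?_⟩
        show m₁ ^ ((![1, 0] : Fin 2 → ZMod (2 ^ (r + 1))) 0).val *
          m₂ ^ ((![1, 0] : Fin 2 → ZMod (2 ^ (r + 1))) 1).val = x
        simp [hone, m₁]
      · refine ⟨Multiplicative.ofAdd ![0, 1], ?_⟩
        show m₁ ^ ((![0, 1] : Fin 2 → ZMod (2 ^ (r + 1))) 0).val *
          m₂ ^ ((![0, 1] : Fin 2 → ZMod (2 ^ (r + 1))) 1).val = σ x
        simp [hone, m₂]
    rw [hgen x hx] at hle
    exact top_le_iff.1 hle
  exact ⟨r + 1, ⟨(MulEquiv.ofBijective g ⟨hinj, hsurj⟩).symm⟩⟩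

end homocyclic


section odd

variable {V : Type*} [CommGroup V] [Finite V]

/-- A nontrivial automorphism of odd order of an elementary abelian group of order at most `4` has no
nontrivial fixed point. -/
theorem fpf_of_odd (hexp : ∀ x : V, x ^ 2 = 1) (hcard : Nat.card V ≤ 2 ^ 2) (w : MulAut V)
    (hodd : Odd (orderOf w)) (hw1 : w ≠ 1) : Nat.card V = 4 ∧ ∀ v, v ≠ 1 → w v ≠ v := by
  have hfact : Fact (Nat.Prime 2) := ⟨Nat.prime_two⟩
  have hfpf : ∀ v, v ≠ 1 → w v ≠ v := by
    intro v hv hfix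
    by_cases hall : ∀ t : V, t ∈ Subgroup.zpowers v
    · apply hw1
      ext t
      obtain ⟨i, hi⟩ := hall t
      rw [← hi, map_zpow, hfix]
      rfl
    · push Not at hall
      obtain ⟨e, he⟩ := hall
      obtain ⟨c, m, hcm⟩ := exists_coords hexp hcard hv he (w e)
      have hm : Odd m := by
        rcases Nat.even_or_odd m with ⟨d, hd⟩ | h
        · exfalso
          apply he
          have h1 : w e = w (v ^ c) := by
            rw [hcm, hd, ← two_mul, pow_mul, hexp, one_pow, mul_one, map_pow, hfix]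
          have h2 : e = v ^ c := MulEquiv.injective w h1
          rw [h2]
          exact pow_mem (Subgroup.mem_zpowers v) c
        · exact h
      have he1 : e ^ m = e := by
        obtain ⟨d, hd⟩ := hm
        rw [hd, pow_add, pow_mul, hexp, one_pow, one_mul, pow_one]
      rw [he1] at hcm
      have hw2 : w ^ 2 = 1 := by
        apply eq_one_of_fix (p := 2) hexp hcard hv he (pow_fix hfix 2)
        rw [pow_two, MulAut.mul_apply, hcm, map_mul, map_pow, hfix, hcm, ← mul_assoc, ← pow_add,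
          ← two_mul, pow_mul, hexp, one_pow, one_mul]
      have h1 := orderOf_dvd_of_pow_eq_one hw2
      have h2 : orderOf w = 1 := by
        rcases (Nat.dvd_prime Nat.prime_two).1 h1 with h | h
        · exact h
        · rw [h] at hodd
          exact absurd hodd (by decide)
      exact hw1 (orderOf_eq_one_iff.1 h2)
  refine ⟨?_, hfpf⟩
  -- `V` has an element outside a line
  have hnt : Nontrivial V := by
    by_contra hnt
    rw [not_nontrivial_iff_subsingleton] at hnt
    apply hw1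
    ext t
    exact Subsingleton.elim _ _
  obtain ⟨v, hv⟩ := exists_ne (1 : V)
  have hwv1 : w v ≠ 1 := fun h => hv ((map_eq_one_iff w (MulEquiv.injective w)).1 h)
  have hnot : w v ∉ Subgroup.zpowers v := by
    intro h
    obtain ⟨k, hk⟩ := h
    rcases Int.even_or_odd' k with ⟨l, rfl | rfl⟩
    · apply hwv1
      rw [← hk]
      show v ^ (2 * l) = 1
      rw [zpow_mul, zpow_two, ← pow_two, hexp, one_zpow]
    · apply hfpf v hv
      rw [← hk]
      show v ^ (2 * l + 1) = v
      rw [zpow_add, zpow_mul, zpow_two, ← pow_two, hexp, one_zpow, one_mul, zpow_one]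
  refine le_antisymm hcard ?_
  have ho1 : orderOf v = 2 := orderOf_eq_prime (hexp v) hv
  have h3 := Subgroup.card_eq_card_quotient_mul_card_subgroup (Subgroup.zpowers v)
  rw [Nat.card_zpowers, ho1] at h3
  let b : V ⧸ Subgroup.zpowers v := (w v : V)
  have hb : b ≠ 1 := fun h => hnot ((QuotientGroup.eq_one_iff _).1 h)
  have hob : orderOf b = 2 := by
    refine orderOf_eq_prime ?_ hb
    show ((w v : V) : V ⧸ Subgroup.zpowers v) ^ 2 = 1
    rw [← QuotientGroup.mk_pow, hexp]
    rfl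
  have h4 : 2 ≤ Nat.card (V ⧸ Subgroup.zpowers v) :=
    Nat.le_of_dvd Nat.card_pos (hob ▸ orderOf_dvd_natCard b)
  rw [h3]
  omega

end odd

section inner

variable {Ω : Type*} [Group Ω] {S : Subgroup Ω} [Finite S] {F : FusionSystem S}

/-- All elements of odd order of `Aut_F(S)` are trivial, so `F` is inner, when `S` is normal in `F`. -/
theorem hom_eq_inner_of_isNormal (hS : IsPGroup 2 S) (hF : F.IsSaturated 2) (hN : F.IsNormal S)
    (hodd : ∀ α ∈ F.autGroup S, (orderOf α).Coprime 2 → α = 1) (P : Subgroup Ω) :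
    F.Hom P = (innerFusionSystem S).Hom P := by
  classical
  have hfact : Fact (Nat.Prime 2) := ⟨Nat.prime_two⟩
  have hfinA : Finite (MulAut S) :=
    Finite.of_injective (fun f : MulAut S => (f : S → S)) DFunLike.coe_injective
  have hA : IsPGroup 2 (F.autGroup S) :=
    Cfsg.Agent.Lib.Coprime.Stability.isPGroup_of_forall_coprime Nat.prime_two _ hodd
  have hFN : F.IsFullyNormalized S := Cfsg.Agent.Lib.Fusion.Hyperfocal.isFullyNormalized_S
  obtain ⟨R, hR⟩ := (fullyNormalized_props hS hF hFN).2.2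
  have hRtop : (R : Subgroup (F.autGroup S)) = ⊤ := by
    have h1 : IsPGroup 2 (⊤ : Subgroup (F.autGroup S)) := fun x => by
      obtain ⟨n, hn⟩ := hA x.1
      exact ⟨n, Subtype.ext hn⟩
    exact (R.is_maximal' h1 le_top).symm
  have hinner : ∀ α ∈ F.autGroup S, α ∈ autInducedBy S S := by
    intro α hα
    have h1 : (⟨α, hα⟩ : F.autGroup S) ∈ (R : Subgroup (F.autGroup S)) := by
      rw [hRtop]
      trivial
    rw [hR] at h1
    exact h1
  ext φ
  constructor
  · intro hφ
    have hPS : P ≤ S := (F.le_of_mem hφ).1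
    obtain ⟨ψ, hψ, hag, -⟩ := hN.2 P φ hφ
    let ψ' : S →* Ω := ψ.comp (Subgroup.inclusion le_sup_right)
    have hψ' : ψ' ∈ F.Hom S := res_mem hψ le_sup_right
    have hv : ∀ x, ψ' x ∈ S := map_mem_S hψ'
    let α : MulAut S := Cfsg.Agent.Lib.Fusion.Saturated2.autOfHom ψ' (F.injective_of_mem hψ') hv
    have hα : α ∈ F.autGroup S := Cfsg.Agent.Lib.Fusion.Saturated2.autOfHom_mem hψ' hv
    obtain ⟨g, hg, hgα⟩ := mem_autInducedBy_iff.1 (hinner α hα)
    refine ⟨hPS, g, hg, fun x => ?_⟩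
    rw [← hag x]
    have h1 := hgα ⟨x, hPS x.2⟩
    have h2 : ψ' ⟨x, hPS x.2⟩ = ψ (Subgroup.inclusion le_sup_left x) := by
      show ψ _ = ψ _
      congr 1
    rw [← h2]
    exact h1
  · rintro ⟨hPS, g, hg, h⟩
    have h1 : φ = conjHom P g := by
      ext x
      exact h x
    rw [h1]
    exact F.conj_mem hPS hg

/-- **S5212**. -/
theorem main (hS : IsPGroup 2 S) (hF : F.IsSaturated 2) (hm : Cfsg.IsMetacyclic ↥S)
    (hh : ¬ ∃ n k : ℕ, Nonempty (↥S ≃* Multiplicative (Fin k → ZMod (2 ^ n))))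
    (hd : ¬ ∃ m : ℕ, Nonempty (↥S ≃* DihedralGroup m))
    (hq : ¬ ∃ m : ℕ, Nonempty (↥S ≃* QuaternionGroup m)) (hsd : ¬ Cfsg.IsQuasiDihedral ↥S)
    (P : Subgroup Ω) : F.Hom P = (innerFusionSystem S).Hom P := by
  classical
  have hfact : Fact (Nat.Prime 2) := ⟨Nat.prime_two⟩
  have hSC : F.StronglyClosed S := ⟨le_rfl, fun R _ φ hφ x => map_mem_S hφ x⟩
  have hN : F.IsNormal S := Cfsg.Agent.Lib.Fusion.Meta.MainTwo.isNormal hS hF hSC hm hd hq hsd
  refine hom_eq_inner_of_isNormal hS hF hN ?_ P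
  intro α _ hc
  by_contra hα1
  have hoddα : Odd (orderOf α) := Nat.coprime_two_right.1 hc
  have hVc := frat_comm hS
  have hexp := frat_exp hS
  have hcard : Nat.card (S ⧸ frattini S) ≤ 2 ^ 2 := by
    have h1 : Cfsg.IsMetacyclic (S ⧸ frattini S) :=
      Cfsg.Agent.Lib.PGroup.HuppertA.metacyclic_of_surjective (QuotientGroup.mk' _)
        (QuotientGroup.mk'_surjective _) hm
    exact Cfsg.Agent.Lib.PGroup.HuppertA.card_le_of_metacyclic_exponent (by norm_num) h1 hexp
  let w : MulAut (S ⧸ frattini S) := fratAut S α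
  have hwodd : Odd (orderOf w) :=
    Odd.of_dvd_nat hoddα (orderOf_map_dvd (fratAut S) α)
  have hw1 : w ≠ 1 := by
    intro h
    apply hα1
    refine aut_eq_one_of_frattini hS α hc fun x => ?_
    rw [← QuotientGroup.eq_one_iff]
    have h3 : w (x : S ⧸ frattini S) = (x : S ⧸ frattini S) := by rw [h]; rfl
    rw [show w (x : S ⧸ frattini S) = ((α x : S) : S ⧸ frattini S) from rfl] at h3
    rw [QuotientGroup.mk_mul, QuotientGroup.mk_inv, h3]
    simp
  let instV : CommGroup (S ⧸ frattini S) :=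
    { (inferInstance : Group (S ⧸ frattini S)) with mul_comm := hVc }
  obtain ⟨hcV, hfpf⟩ := fpf_of_odd (V := S ⧸ frattini S) hexp hcard w hwodd hw1
  by_cases hab : ∀ x y : S, x * y = y * x
  · obtain ⟨n, ⟨e⟩⟩ := exists_homocyclic hS hab hcV α hfpf
    exact hh ⟨n, 2, ⟨e⟩⟩
  · rcases abelian_or_card_eight hS hcV α hfpf hm with h | h
    · exact hab h
    · -- nonabelian of order `8`
      push Not at hab
      obtain ⟨x, y, hxy⟩ := hab
      have hna : ∃ a c : S, a * c ≠ c * a := ⟨x, y, hxy⟩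
      have h4 : (commutator S).index ≤ 4 := by
        have h1 := (commutator S).card_mul_index
        rw [h] at h1
        have h2 : 2 ≤ Nat.card (commutator S) := by
          have hnt : Nontrivial (commutator S) := by
            rw [Subgroup.nontrivial_iff_ne_bot]
            intro hb
            apply hxy
            have h3 : ⁅x, y⁆ ∈ commutator S := Subgroup.commutator_mem_commutator trivial trivial
            rw [hb, Subgroup.mem_bot, commutatorElement_eq_one_iff_mul_comm] at h3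
            exact h3
          exact Finite.one_lt_card_iff_nontrivial.2 hnt
        nlinarith
      obtain ⟨h5, h6⟩ := Cfsg.Agent.Lib.PGroup.Taussky.klein_of_index_le_four hS hna h4
      have hab4 : Nat.card (Abelianization S) = 4 := h5
      have hexp2 : ∀ t : Abelianization S, t ^ 2 = 1 := by
        intro t
        have h7 : ∀ t : S ⧸ commutator S, t ^ 2 = 1 := by
          intro t
          obtain ⟨t', rfl⟩ := QuotientGroup.mk_surjective t
          rw [← QuotientGroup.mk_pow]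
          exact (QuotientGroup.eq_one_iff _).2 (h6 t')
        exact h7 t
      rcases Cfsg.Agent.S4399.result hS hab4 hexp2 with h7 | ⟨k, ⟨e⟩⟩ | ⟨k, h1, u, v, h2, h3, h8⟩ | ⟨k, ⟨e⟩⟩
      · omega
      · exact hd ⟨_, ⟨e⟩⟩
      · refine hsd ⟨k + 3, by omega, ?_, u, v, h2, h3, ?_⟩
        · rw [h1]
        · rw [h8]
          rfl
      · exact hq ⟨_, ⟨e⟩⟩

end inner

end Cfsg.Agent.Lib.Fusion.Meta.Inner
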